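import Cfsg.Agent.H259.U6.Six
import Cfsg.Agent.H767.U6.Mats
import Cfsg.Agent.ClassicalGeometry.PSUAutCount

/-!
# `SU₆(2)` in codes (4): certificates

A certificate: codes of the matrices of `a, b`, transvection words for them, a power of a word which is a
transvection, and words which move its centre to the six points; `a b = (l Xᵢ) b a`.
-/

set_option autoImplicit false
set_option linter.unusedSectionVars false
set_option maxRecDepth 100000

namespace Cfsg.Agent.H259.U6

open Cfsg Cfsg.Agent.LieClassical.HermBasic Cfsg.Agent.ClassicalGeometry.UnitTransv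
  Cfsg.Agent.SporadicStructure.UnitTwo
open Cfsg.Agent.LieClassical.HermSiegel (mat mat_mul mat_injective)
open Cfsg.Agent.ClassicalGeometry.PSUAutCount (gm guConj gm_inv_mul gm_mul_inv)
open scoped Matrix

/-! ### the representatives -/

/-- a column of a packed matrix -/
def col (P c : ℕ) : ℕ :=
  pk (H767.U6.cd P 0 c) (H767.U6.cd P 1 c) (H767.U6.cd P 2 c) (H767.U6.cd P 3 c) (H767.U6.cd P 4 c) (H767.U6.cd P 5 c)

/-- a matrix with the given columns -/
def mxl (c0 c1 c2 c3 c4 c5 x : ℕ) : ℕ :=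
  Nat.xor (sm (dig x 0) c0) (Nat.xor (sm (dig x 1) c1) (Nat.xor (sm (dig x 2) c2) (Nat.xor (sm (dig x 3) c3)
    (Nat.xor (sm (dig x 4) c4) (sm (dig x 5) c5)))))

/-- a packed matrix on codes -/
def mx (P x : ℕ) : ℕ := mxl (col P 0) (col P 1) (col P 2) (col P 3) (col P 4) (col P 5) x

theorem cd_lt (P r c : ℕ) : H767.U6.cd P r c < 4 := by
  unfold H767.U6.cd
  rw [and_three]
  exact Nat.mod_lt _ (by norm_num)

theorem col_lt (P c : ℕ) : col P c < 4096 :=
  pk_lt (cd_lt _ _ _) (cd_lt _ _ _) (cd_lt _ _ _) (cd_lt _ _ _) (cd_lt _ _ _) (cd_lt _ _ _)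

section F

variable {F : Type*} [Field F] [Fintype F] (hF : Fintype.card F = 2 ^ 2) {ω : F} (hω : ω ^ 2 + ω + 1 = 0)

theorem d4_eq (c : ℕ) : H767.U6.d4 ω c = d4 ω c := by
  rcases c with _ | _ | _ | c <;> rfl

theorem dec_col (P c : ℕ) : dec ω (col P c) = fun r : Fin 6 => H767.U6.d4 ω (H767.U6.cd P r c) := by
  rw [col, dec_pk (cd_lt _ _ _) (cd_lt _ _ _) (cd_lt _ _ _) (cd_lt _ _ _) (cd_lt _ _ _) (cd_lt _ _ _)]
  funext r
  rw [d4_eq]
  fin_cases r <;> rfl

include hF hω in
theorem dec_mx (P x : ℕ) : dec ω (mx P x) = H767.U6.mt ω P *ᵥ dec ω x := by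
  show dec ω (_ ^^^ (_ ^^^ (_ ^^^ (_ ^^^ (_ ^^^ _))))) = _
  rw [dec_xor hF, dec_xor hF, dec_xor hF, dec_xor hF, dec_xor hF]
  rw [dec_sm hF hω (col_lt _ _) (dig_lt _ _), dec_sm hF hω (col_lt _ _) (dig_lt _ _),
    dec_sm hF hω (col_lt _ _) (dig_lt _ _), dec_sm hF hω (col_lt _ _) (dig_lt _ _),
    dec_sm hF hω (col_lt _ _) (dig_lt _ _), dec_sm hF hω (col_lt _ _) (dig_lt _ _)]
  simp only [dec_col]
  funext r
  simp only [Pi.add_apply, Pi.smul_apply, smul_eq_mul, Matrix.mulVec, dotProduct, Fin.sum_univ_six, H767.U6.mt, dec,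
    Fin.val_zero, Fin.val_one, Fin.val_two, show ((3 : Fin 6) : ℕ) = 3 from rfl,
    show ((4 : Fin 6) : ℕ) = 4 from rfl, show ((5 : Fin 6) : ℕ) = 5 from rfl]
  ring

end F

/-! ### certificates -/

/-- certificate -/
structure Crt where
  /-- number of the class -/
  i : ℕ
  /-- scalar -/
  l : ℕ
  /-- transvections with product `a` -/
  ta : List ℕ
  /-- transvections with product `b` -/
  tb : List ℕ
  /-- `a` -/
  A : List ℕ
  /-- `b` -/
  B : List ℕ
  /-- a word -/
  w : List Bool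
  /-- its power -/
  k : ℕ
  /-- is the transvection with this centre -/
  v : ℕ
  /-- words -/
  gs : List (List Bool)

/-- `x` is in the line of `p` -/
def inL (x p : ℕ) : Bool := bif Nat.beq x p then true else bif Nat.beq x (mw p) then true else Nat.beq x (Nat.xor p (mw p))

/-- the words move the centre to the lines of the six points -/
def hits (A B : List ℕ) (v : ℕ) : List (List Bool) → List ℕ → Bool
  | _, [] => true
  | [], _ :: _ => false
  | g :: gs, p :: ps => bif frc (wd A B g v) fun x => inL x p then hits A B v gs ps else false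

/-- the check -/
def chk (d : Crt) : Bool :=
  (lbeq (E12.map (tvs d.ta)) d.A && (okL d.A && okT d.ta)) &&
  ((lbeq (E12.map (tvs d.tb)) d.B && (okL d.B && okT d.tb)) &&
  ((okT [d.v] && allB 6 fun j => Nat.beq (itn (wd d.A d.B d.w) d.k (Nat.pow 4 j)) (tv d.v (Nat.pow 4 j))) &&
  (hits d.A d.B d.v d.gs G6 &&
  frc (H767.U6.XP.getD d.i 0) fun P => frc (col P 0) fun c0 => frc (col P 1) fun c1 => frc (col P 2) fun c2 =>
    frc (col P 3) fun c3 => frc (col P 4) fun c4 => frc (col P 5) fun c5 => allB 6 fun j =>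
      frc (Nat.pow 4 j) fun e => frc (ap d.B (ap d.A e)) fun x =>
        Nat.beq (ap d.A (ap d.B e)) (sm d.l (mxl c0 c1 c2 c3 c4 c5 x)))))

section F

variable {F : Type*} [Field F] [Fintype F] (hF : Fintype.card F = 2 ^ 2) {ω : F} (hω : ω ^ 2 + ω + 1 = 0)

theorem inL_spec {x p : ℕ} (h : inL x p = true) : ∃ c < 4, c ≠ 0 ∧ x = sm c p := by
  unfold inL at h
  cases h1 : Nat.beq x p with
  | true => exact ⟨1, by norm_num, by norm_num, by rw [sm_1]; exact beq_eq h1⟩
  | false =>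
    rw [h1, cond_false] at h
    cases h2 : Nat.beq x (mw p) with
    | true => exact ⟨2, by norm_num, by norm_num, by rw [sm_2]; exact beq_eq h2⟩
    | false =>
      rw [h2, cond_false] at h
      exact ⟨3, by norm_num, by norm_num, by rw [sm_3]; exact beq_eq h⟩

theorem hits_spec {A B : List ℕ} {v : ℕ} : ∀ {gs : List (List Bool)} {ps : List ℕ}, hits A B v gs ps = true →
    ∀ p ∈ ps, ∃ g : List Bool, ∃ c < 4, c ≠ 0 ∧ wd A B g v = sm c p := by
  intro gs
  induction gs with
  | nil =>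
    intro ps h p hp
    cases ps with
    | nil => cases hp
    | cons q ps => cases h
  | cons g gs ih =>
    intro ps h p hp
    cases ps with
    | nil => cases hp
    | cons q ps =>
      rw [hits, frc_eq] at h
      cases h1 : inL (wd A B g v) q with
      | false => rw [h1] at h; cases h
      | true =>
        rw [h1, cond_true] at h
        rcases List.mem_cons.1 hp with h2 | h2
        · rw [h2]
          exact ⟨g, inL_spec h1⟩
        · exact ih h p h2

theorem act_add' (g : SU 6 F 2) : ∀ x y, act g (x + y) = act g x + act g y := fun x y => act_add g x y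

include hF hω in
/-- the meaning of a certificate -/
theorem chk_spec (d : Crt) (hl4 : d.l < 4) (h : chk d = true) :
    ∃ a b : SU 6 F 2, Subgroup.closure {a, b} = ⊤ ∧
      mat (a * b) = (H767.U6.d4 ω d.l • H767.U6.X ω d.i) * mat (b * a) := by
  unfold chk at h
  simp only [Bool.and_eq_true, frc_eq] at h
  obtain ⟨⟨hA, hA1, hA2⟩, ⟨hB, hB1, hB2⟩, ⟨hv, hw⟩, hg, hX⟩ := h
  obtain ⟨a, ha⟩ := exists_tvs hF hω d.ta (okT_spec hA2)
  obtain ⟨b, hb⟩ := exists_tvs hF hω d.tb (okT_spec hB2)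
  have ha' : Rp ω (act a) (ap d.A) := rp_ap hF (act_add' a) ha hA hA1
  have hb' : Rp ω (act b) (ap d.B) := rp_ap hF (act_add' b) hb hB hB1
  obtain ⟨hv1, hv2⟩ := okT_spec hv d.v (List.mem_singleton.2 rfl)
  have hv3 := (herm_eq_zero_iff hF hω _ _).2 hv2
  refine ⟨a, b, six hF hω ?_, ?_⟩
  · -- the six transvections
    have hT : T hF (dec ω d.v) hv3 ∈ Subgroup.closure {a, b} := by
      have h1 : (wg a b d.w) ^ d.k = T hF (dec ω d.v) hv3 := by
        refine ext6 hF hω (rp_pow (rp_wg ha' hb' d.w) d.k) (rp_T hF hω hv1 hv3) fun j hj => ?_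
        exact beq_eq (allB_spec hw j hj)
      rw [← h1]
      exact pow_mem (wg_mem a b _) _
    intro p hp
    obtain ⟨g, c, hc, hc0, h1⟩ := hits_spec hg p hp
    have hp' : p < 4096 ∧ hm p p = 0 := okT_spec (L := G6) (by decide) p hp
    have h2 := (rp_wg ha' hb' g d.v hv1).2
    rw [h1, dec_sm hF hω hp'.1 hc] at h2
    refine ⟨hp'.1, hp'.2, fun h3 => ?_⟩
    have h4 : hermForm 6 F 2 (act (wg a b g) (dec ω d.v)) (act (wg a b g) (dec ω d.v)) = 0 := by
      rw [herm_act, hv3]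
    have h5 := conj_T hF (wg a b g) (dec ω d.v) hv3 h4
    have h6 : T hF (act (wg a b g) (dec ω d.v)) h4 = T hF (dec ω p) h3 := by
      have h7 : hermForm 6 F 2 (d4 ω c • dec ω p) (d4 ω c • dec ω p) = 0 := by rw [← h2]; exact h4
      rw [← T_smul hF (d4 ω c) (d4_ne hω hc hc0) (dec ω p) h3 h7]
      congr 1
    rw [← h6, ← h5]
    exact mul_mem (mul_mem (wg_mem a b g) hT) (inv_mem (wg_mem a b g))
  · -- the commutator
    apply Matrix.ext_of_mulVec_single
    intro j
    have h5 : dec ω (4 ^ (j : ℕ)) = Pi.single j 1 := by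
      funext i
      unfold dec
      rw [dig_eq]
      fin_cases j <;> fin_cases i <;> rfl
    have h6 : (4 : ℕ) ^ (j : ℕ) < 4096 := by
      have := j.2
      generalize (j : ℕ) = m at this
      interval_cases m <;> norm_num
    rw [← h5, ← Matrix.mulVec_mulVec, Matrix.smul_mulVec]
    have h7 := (rp_mul ha' hb' _ h6).2
    have h8 := (rp_mul hb' ha' _ h6)
    have h9 := beq_eq (allB_spec hX j j.2)
    have e1 : mat (a * b) *ᵥ dec ω (4 ^ (j : ℕ)) = dec ω (ap d.A (ap d.B (4 ^ (j : ℕ)))) := h7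
    have e2 : mat (b * a) *ᵥ dec ω (4 ^ (j : ℕ)) = dec ω (ap d.B (ap d.A (4 ^ (j : ℕ)))) := h8.2
    rw [e1, e2, H767.U6.X, ← dec_mx hF hω, d4_eq]
    have h10 : mx (H767.U6.XP.getD d.i 0) (ap d.B (ap d.A (4 ^ (j : ℕ)))) < 4096 := by
      refine Nat.xor_lt_two_pow (n := 12) (sm_lt _ (col_lt _ _) _ (dig_lt _ _)) (Nat.xor_lt_two_pow (n := 12)
        (sm_lt _ (col_lt _ _) _ (dig_lt _ _)) (Nat.xor_lt_two_pow (n := 12) (sm_lt _ (col_lt _ _) _ (dig_lt _ _))
        (Nat.xor_lt_two_pow (n := 12) (sm_lt _ (col_lt _ _) _ (dig_lt _ _)) (Nat.xor_lt_two_pow (n := 12)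
        (sm_lt _ (col_lt _ _) _ (dig_lt _ _)) (sm_lt _ (col_lt _ _) _ (dig_lt _ _))))))
    rw [← dec_sm hF hω h10 hl4]
    exact congrArg (dec ω) h9

end F

end Cfsg.Agent.H259.U6
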