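import Cfsg.Agent.SporadicStructure.UnitTwo

/-!
# `SU₆(2)` in codes (1): vectors

Vectors of `F⁶`, `|F| = 4`, as 12 bit numbers: entry `i` in the bits `2 i, 2 i + 1`, `0, 1, 2 = ω, 3 = ω + 1`.
-/

set_option autoImplicit false
set_option linter.unusedSectionVars false
set_option maxRecDepth 100000

namespace Cfsg.Agent.H259.U6

open Cfsg Cfsg.Agent.LieClassical.HermBasic Cfsg.Agent.ClassicalGeometry.UnitTransv
  Cfsg.Agent.SporadicStructure.UnitTwo
open scoped Matrix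

/-- `f` holds below `n` -/
def allB (n : ℕ) (f : ℕ → Bool) : Bool := Nat.rec true (fun m ih => bif f m then ih else false) n

theorem allB_spec {n : ℕ} {f : ℕ → Bool} (h : allB n f = true) : ∀ m < n, f m = true := by
  induction n with
  | zero => exact fun m hm => absurd hm (Nat.not_lt_zero m)
  | succ n ih =>
    have h' : (bif f n then allB n f else false) = true := h
    cases hf : f n with
    | false => rw [hf] at h'; cases h'
    | true =>
      rw [hf] at h'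
      intro m hm
      rcases Nat.lt_succ_iff_lt_or_eq.1 hm with h1 | h1
      · exact ih h' m h1
      · rw [h1]; exact hf

theorem beq_eq {a b : ℕ} (h : Nat.beq a b = true) : a = b := Nat.eq_of_beq_eq_true h

/-- entry of a code -/
def dig (x i : ℕ) : ℕ := Nat.land (Nat.shiftRight x (Nat.mul 2 i)) 3

/-- multiplication table -/
def mt (a b : ℕ) : ℕ := Nat.land (Nat.shiftRight 2625168384 (Nat.add (Nat.mul 8 a) (Nat.mul 2 b))) 3

/-- conjugation -/
def cj (a : ℕ) : ℕ := Nat.land (Nat.shiftRight 180 (Nat.mul 2 a)) 3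

/-- multiplication of a vector by `ω` -/
def mw (x : ℕ) : ℕ :=
  Nat.lor (Nat.land (Nat.shiftRight x 1) 0x555)
    (Nat.shiftLeft (Nat.xor (Nat.land x 0x555) (Nat.land (Nat.shiftRight x 1) 0x555)) 1)

/-- scalar multiplication -/
def sm (c x : ℕ) : ℕ := Nat.xor (Nat.mul (Nat.land c 1) x) (Nat.mul (Nat.shiftRight c 1) (mw x))

theorem and_three (x : ℕ) : Nat.land x 3 = x % 4 := Nat.and_two_pow_sub_one_eq_mod x 2

theorem dig_eq (x i : ℕ) : dig x i = (x >>> (2 * i)) % 4 := and_three _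

theorem dig_lt (x i : ℕ) : dig x i < 4 := by rw [dig_eq]; exact Nat.mod_lt _ (by norm_num)

theorem dig_xor (x y i : ℕ) : dig (x ^^^ y) i = dig x i ^^^ dig y i := by
  rw [dig_eq, dig_eq, dig_eq, Nat.shiftRight_xor_distrib, show (4 : ℕ) = 2 ^ 2 by norm_num, Nat.xor_mod_two_pow]

theorem dig_zero (i : ℕ) : dig 0 i = 0 := by rw [dig_eq, Nat.zero_shiftRight]

theorem dig_mw : ∀ x < 4096, ∀ i < 6, dig (mw x) i = mt 2 (dig x i) := by
  have h : allB 4096 (fun x => allB 6 fun i => Nat.beq (dig (mw x) i) (mt 2 (dig x i))) = true := by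
    decide +kernel
  exact fun x hx i hi => beq_eq (allB_spec (allB_spec h x hx) i hi)

theorem sm_0 (x : ℕ) : sm 0 x = 0 := by
  show Nat.xor (Nat.mul (Nat.land 0 1) x) (Nat.mul (Nat.shiftRight 0 1) (mw x)) = 0
  rw [show Nat.land 0 1 = 0 from rfl, show Nat.shiftRight 0 1 = 0 from rfl, show Nat.mul 0 x = 0 from Nat.zero_mul x,
    show Nat.mul 0 (mw x) = 0 from Nat.zero_mul _]
  rfl

theorem sm_1 (x : ℕ) : sm 1 x = x := by
  show Nat.xor (Nat.mul (Nat.land 1 1) x) (Nat.mul (Nat.shiftRight 1 1) (mw x)) = x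
  rw [show Nat.land 1 1 = 1 from rfl, show Nat.shiftRight 1 1 = 0 from rfl, show Nat.mul 1 x = x from Nat.one_mul x,
    show Nat.mul 0 (mw x) = 0 from Nat.zero_mul _]
  exact Nat.xor_zero x

theorem sm_2 (x : ℕ) : sm 2 x = mw x := by
  show Nat.xor (Nat.mul (Nat.land 2 1) x) (Nat.mul (Nat.shiftRight 2 1) (mw x)) = mw x
  rw [show Nat.land 2 1 = 0 from rfl, show Nat.shiftRight 2 1 = 1 from rfl, show Nat.mul 0 x = 0 from Nat.zero_mul x,
    show Nat.mul 1 (mw x) = mw x from Nat.one_mul _]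
  exact Nat.zero_xor _

theorem sm_3 (x : ℕ) : sm 3 x = x ^^^ mw x := by
  show Nat.xor (Nat.mul (Nat.land 3 1) x) (Nat.mul (Nat.shiftRight 3 1) (mw x)) = x ^^^ mw x
  rw [show Nat.land 3 1 = 1 from rfl, show Nat.shiftRight 3 1 = 1 from rfl, show Nat.mul 1 x = x from Nat.one_mul x,
    show Nat.mul 1 (mw x) = mw x from Nat.one_mul _]
  rfl

theorem mt_tab : ∀ a < 4, mt 0 a = 0 ∧ mt 1 a = a ∧ a ^^^ mt 2 a = mt 3 a := by decide

theorem dig_sm : ∀ x < 4096, ∀ c < 4, ∀ i < 6, dig (sm c x) i = mt c (dig x i) := by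
  intro x hx c hc i hi
  have h := mt_tab _ (dig_lt x i)
  interval_cases c
  · rw [sm_0, dig_zero, h.1]
  · rw [sm_1, h.2.1]
  · rw [sm_2, dig_mw x hx i hi]
  · rw [sm_3, dig_xor, dig_mw x hx i hi, h.2.2]

theorem mw_lt (x : ℕ) : mw x < 4096 := by
  have h : ∀ y, Nat.land y 0x555 < 2 ^ 11 := fun y => lt_of_le_of_lt Nat.and_le_right (by norm_num)
  have h1 : Nat.xor (Nat.land x 0x555) (Nat.land (Nat.shiftRight x 1) 0x555) < 2 ^ 11 :=
    Nat.xor_lt_two_pow (h _) (h _)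
  have h2 : Nat.shiftLeft (Nat.xor (Nat.land x 0x555) (Nat.land (Nat.shiftRight x 1) 0x555)) 1 < 2 ^ 12 := by
    have : Nat.shiftLeft (Nat.xor (Nat.land x 0x555) (Nat.land (Nat.shiftRight x 1) 0x555)) 1 =
        (Nat.xor (Nat.land x 0x555) (Nat.land (Nat.shiftRight x 1) 0x555)) * 2 ^ 1 := Nat.shiftLeft_eq _ _
    omega
  exact Nat.or_lt_two_pow (n := 12) (lt_of_lt_of_le (h _) (by norm_num)) h2

theorem sm_lt : ∀ x < 4096, ∀ c < 4, sm c x < 4096 := by
  intro x hx c hc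
  interval_cases c
  · rw [sm_0]; norm_num
  · rw [sm_1]; exact hx
  · rw [sm_2]; exact mw_lt x
  · rw [sm_3]; exact Nat.xor_lt_two_pow (n := 12) hx (mw_lt x)

theorem mt_lt (a b : ℕ) : mt a b < 4 := by unfold mt; rw [and_three]; exact Nat.mod_lt _ (by norm_num)

theorem cj_lt (a : ℕ) : cj a < 4 := by unfold cj; rw [and_three]; exact Nat.mod_lt _ (by norm_num)

theorem xor_lt {a b : ℕ} (ha : a < 4) (hb : b < 4) : a ^^^ b < 4 := Nat.xor_lt_two_pow (n := 2) ha hb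

section F

variable {F : Type*} [Field F] [Fintype F] (hF : Fintype.card F = 2 ^ 2) {ω : F} (hω : ω ^ 2 + ω + 1 = 0)

/-- the field element -/
def d4 (ω : F) (c : ℕ) : F := bif Nat.beq c 0 then 0 else bif Nat.beq c 1 then 1 else bif Nat.beq c 2 then ω else ω + 1

theorem d4_0 (ω : F) : d4 ω 0 = 0 := rfl
theorem d4_1 (ω : F) : d4 ω 1 = 1 := rfl
theorem d4_2 (ω : F) : d4 ω 2 = ω := rfl
theorem d4_3 (ω : F) : d4 ω 3 = ω + 1 := rfl

include hF in
theorem d4_xor : ∀ a < 4, ∀ b < 4, d4 ω (a ^^^ b) = d4 ω a + d4 ω b := by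
  have h2 := two_eq_zero hF
  intro a ha b hb
  interval_cases a <;> interval_cases b <;>
    simp only [Nat.xor_self, Nat.zero_xor, Nat.xor_zero, show (1 : ℕ) ^^^ 2 = 3 from rfl, show (1 : ℕ) ^^^ 3 = 2 from rfl,
      show (2 : ℕ) ^^^ 1 = 3 from rfl, show (2 : ℕ) ^^^ 3 = 1 from rfl, show (3 : ℕ) ^^^ 1 = 2 from rfl,
      show (3 : ℕ) ^^^ 2 = 1 from rfl, d4_0, d4_1, d4_2, d4_3] <;> first
      | ring1
      | linear_combination (-1 : F) * h2
      | linear_combination (-ω) * h2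
      | linear_combination (-(ω + 1)) * h2

include hF hω in
theorem d4_mt : ∀ a < 4, ∀ b < 4, d4 ω (mt a b) = d4 ω a * d4 ω b := by
  have h2 := two_eq_zero hF
  intro a ha b hb
  interval_cases a <;> interval_cases b <;>
    simp only [show mt 0 0 = 0 from rfl, show mt 0 1 = 0 from rfl, show mt 0 2 = 0 from rfl, show mt 0 3 = 0 from rfl,
      show mt 1 0 = 0 from rfl, show mt 1 1 = 1 from rfl, show mt 1 2 = 2 from rfl, show mt 1 3 = 3 from rfl,
      show mt 2 0 = 0 from rfl, show mt 2 1 = 2 from rfl, show mt 2 2 = 3 from rfl, show mt 2 3 = 1 from rfl,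
      show mt 3 0 = 0 from rfl, show mt 3 1 = 3 from rfl, show mt 3 2 = 1 from rfl, show mt 3 3 = 2 from rfl,
      d4_0, d4_1, d4_2, d4_3] <;> first
      | ring1
      | linear_combination (-1 : F) * hω
      | linear_combination (-1 : F) * hω + (ω + 1) * h2
      | linear_combination (-1 : F) * hω + h2

include hF hω in
theorem d4_cj : ∀ a < 4, d4 ω (cj a) = d4 ω a ^ 2 := by
  have h2 := two_eq_zero hF
  intro a ha
  interval_cases a <;>
    simp only [show cj 0 = 0 from rfl, show cj 1 = 1 from rfl, show cj 2 = 3 from rfl, show cj 3 = 2 from rfl,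
      d4_0, d4_1, d4_2, d4_3] <;> first
      | ring1
      | linear_combination (-1 : F) * hω
      | linear_combination (-1 : F) * hω + (ω + 1) * h2

include hω in
theorem omega_ne : ω ≠ 0 ∧ ω + 1 ≠ 0 := by
  have h0 : ω ≠ 0 := by
    rintro rfl
    norm_num at hω
  refine ⟨h0, fun h => h0 ?_⟩
  have : ω ^ 2 = 0 := by linear_combination hω - h
  exact pow_eq_zero_iff (by norm_num) |>.1 this

include hω in
theorem d4_ne {c : ℕ} (hc : c < 4) (h0 : c ≠ 0) : d4 ω c ≠ 0 := by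
  obtain ⟨h1, h2⟩ := omega_ne hω
  interval_cases c
  · exact absurd rfl h0
  · exact one_ne_zero
  · exact h1
  · exact h2

include hF hω in
theorem exists_d4 (x : F) : ∃ c < 4, d4 ω c = x := by
  have h2 := two_eq_zero hF
  have h := pow_four hF x
  have h3 : x * ((x - 1) * ((x - ω) * (x - (ω + 1)))) = 0 := by
    linear_combination h + (x ^ 2 - x) * hω - (ω * x * (x ^ 2 - x) + x ^ 3 - x ^ 2) * h2 + (x - x ^ 2) * h2
  rcases mul_eq_zero.1 h3 with h0 | h3
  · exact ⟨0, by norm_num, h0.symm⟩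
  rcases mul_eq_zero.1 h3 with h0 | h3
  · exact ⟨1, by norm_num, (sub_eq_zero.1 h0).symm⟩
  rcases mul_eq_zero.1 h3 with h0 | h0
  · exact ⟨2, by norm_num, (sub_eq_zero.1 h0).symm⟩
  · exact ⟨3, by norm_num, (sub_eq_zero.1 h0).symm⟩

/-- the vector of a code -/
def dec (ω : F) (x : ℕ) : Fin 6 → F := fun i => d4 ω (dig x i)

include hF in
theorem dec_xor (x y : ℕ) : dec ω (x ^^^ y) = dec ω x + dec ω y := by
  funext i
  unfold dec
  rw [dig_xor, d4_xor hF _ (dig_lt _ _) _ (dig_lt _ _)]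
  rfl

theorem dec_zero : dec ω 0 = 0 := by
  funext i
  unfold dec
  rw [dig_zero]
  rfl

include hF hω in
theorem dec_sm {x c : ℕ} (hx : x < 4096) (hc : c < 4) : dec ω (sm c x) = d4 ω c • dec ω x := by
  funext i
  unfold dec
  rw [dig_sm x hx c hc i i.2, d4_mt hF hω c hc _ (dig_lt _ _)]
  rfl

/-- pack six entries -/
def pk (a b c d e f : ℕ) : ℕ := a + 4 * b + 16 * c + 64 * d + 256 * e + 1024 * f

theorem pk_lt {a b c d e f : ℕ} (ha : a < 4) (hb : b < 4) (hc : c < 4) (hd : d < 4) (he : e < 4) (hf : f < 4) :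
    pk a b c d e f < 4096 := by unfold pk; omega

theorem dec_pk {a b c d e f : ℕ} (ha : a < 4) (hb : b < 4) (hc : c < 4) (hd : d < 4) (he : e < 4) (hf : f < 4) :
    dec ω (pk a b c d e f) = ![d4 ω a, d4 ω b, d4 ω c, d4 ω d, d4 ω e, d4 ω f] := by
  have h0 : dig (pk a b c d e f) 0 = a := by
    rw [dig_eq, Nat.shiftRight_eq_div_pow, pk]; norm_num; omega
  have h1 : dig (pk a b c d e f) 1 = b := by
    rw [dig_eq, Nat.shiftRight_eq_div_pow, pk]; norm_num; omega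
  have h2 : dig (pk a b c d e f) 2 = c := by
    rw [dig_eq, Nat.shiftRight_eq_div_pow, pk]; norm_num; omega
  have h3 : dig (pk a b c d e f) 3 = d := by
    rw [dig_eq, Nat.shiftRight_eq_div_pow, pk]; norm_num; omega
  have h4 : dig (pk a b c d e f) 4 = e := by
    rw [dig_eq, Nat.shiftRight_eq_div_pow, pk]; norm_num; omega
  have h5 : dig (pk a b c d e f) 5 = f := by
    rw [dig_eq, Nat.shiftRight_eq_div_pow, pk]; norm_num; omega
  funext i
  fin_cases i
  · show d4 ω (dig _ 0) = d4 ω a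
    rw [h0]
  · show d4 ω (dig _ 1) = d4 ω b
    rw [h1]
  · show d4 ω (dig _ 2) = d4 ω c
    rw [h2]
  · show d4 ω (dig _ 3) = d4 ω d
    rw [h3]
  · show d4 ω (dig _ 4) = d4 ω e
    rw [h4]
  · show d4 ω (dig _ 5) = d4 ω f
    rw [h5]

include hF hω in
theorem exists_code (v : Fin 6 → F) : ∃ x < 4096, dec ω x = v := by
  obtain ⟨a, ha, h0⟩ := exists_d4 hF hω (v 0)
  obtain ⟨b, hb, h1⟩ := exists_d4 hF hω (v 1)
  obtain ⟨c, hc, h2⟩ := exists_d4 hF hω (v 2)
  obtain ⟨d, hd, h3⟩ := exists_d4 hF hω (v 3)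
  obtain ⟨e, he, h4⟩ := exists_d4 hF hω (v 4)
  obtain ⟨f, hf, h5⟩ := exists_d4 hF hω (v 5)
  refine ⟨pk a b c d e f, pk_lt ha hb hc hd he hf, ?_⟩
  rw [dec_pk ha hb hc hd he hf, h0, h1, h2, h3, h4, h5]
  funext i
  fin_cases i <;> rfl

/-- the hermitian form -/
def hm (x y : ℕ) : ℕ :=
  Nat.xor (mt (dig x 0) (cj (dig y 0))) (Nat.xor (mt (dig x 1) (cj (dig y 1))) (Nat.xor (mt (dig x 2) (cj (dig y 2)))
    (Nat.xor (mt (dig x 3) (cj (dig y 3))) (Nat.xor (mt (dig x 4) (cj (dig y 4))) (mt (dig x 5) (cj (dig y 5)))))))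

theorem hm_lt (x y : ℕ) : hm x y < 4 :=
  xor_lt (mt_lt _ _) (xor_lt (mt_lt _ _) (xor_lt (mt_lt _ _) (xor_lt (mt_lt _ _) (xor_lt (mt_lt _ _) (mt_lt _ _)))))

include hF hω in
theorem dec_hm (x y : ℕ) : d4 ω (hm x y) = hermForm 6 F 2 (dec ω x) (dec ω y) := by
  have h' : ∀ i : ℕ, d4 ω (mt (dig x i) (cj (dig y i))) = d4 ω (dig x i) * d4 ω (dig y i) ^ 2 := by
    intro i
    rw [d4_mt hF hω _ (dig_lt _ _) _ (cj_lt _), d4_cj hF hω _ (dig_lt _ _)]
  show d4 ω (_ ^^^ (_ ^^^ (_ ^^^ (_ ^^^ (_ ^^^ _))))) = _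
  rw [d4_xor hF _ (mt_lt _ _) _ (xor_lt (mt_lt _ _) (xor_lt (mt_lt _ _) (xor_lt (mt_lt _ _) (xor_lt (mt_lt _ _) (mt_lt _ _))))),
    d4_xor hF _ (mt_lt _ _) _ (xor_lt (mt_lt _ _) (xor_lt (mt_lt _ _) (xor_lt (mt_lt _ _) (mt_lt _ _)))),
    d4_xor hF _ (mt_lt _ _) _ (xor_lt (mt_lt _ _) (xor_lt (mt_lt _ _) (mt_lt _ _))),
    d4_xor hF _ (mt_lt _ _) _ (xor_lt (mt_lt _ _) (mt_lt _ _)),
    d4_xor hF _ (mt_lt _ _) _ (mt_lt _ _), h', h', h', h', h', h', herm_def, Fin.sum_univ_six]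
  unfold dec
  simp only [Fin.val_zero, Fin.val_one, Fin.val_two, show ((3 : Fin 6) : ℕ) = 3 from rfl,
    show ((4 : Fin 6) : ℕ) = 4 from rfl, show ((5 : Fin 6) : ℕ) = 5 from rfl]
  ring

/-- a transvection -/
def tv (v x : ℕ) : ℕ := Nat.xor x (sm (hm x v) v)

theorem tv_lt {v x : ℕ} (hv : v < 4096) (hx : x < 4096) : tv v x < 4096 :=
  Nat.xor_lt_two_pow (n := 12) hx (sm_lt v hv _ (hm_lt _ _))

include hF hω in
theorem dec_tv {v x : ℕ} (hv : v < 4096) : dec ω (tv v x) = dec ω x + hermForm 6 F 2 (dec ω x) (dec ω v) • dec ω v := by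
  show dec ω (x ^^^ sm (hm x v) v) = _
  rw [dec_xor hF, dec_sm hF hω hv (hm_lt _ _), dec_hm hF hω]

include hF hω in
theorem herm_eq_zero_iff (x y : ℕ) : hermForm 6 F 2 (dec ω x) (dec ω y) = 0 ↔ hm x y = 0 := by
  rw [← dec_hm hF hω]
  constructor
  · intro h
    by_contra h0
    exact d4_ne hω (hm_lt x y) h0 h
  · intro h
    rw [h]
    rfl

end F

end Cfsg.Agent.H259.U6
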