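import Cfsg.Agent.H259.U6.Cert

/-!
# `SU₆(2)` in codes (5): the certificates

Data found by helper51 (`tools/h51_u6`) and helper201 (`tools/h201_u6`).
-/

set_option autoImplicit false
set_option maxRecDepth 100000

namespace Cfsg.Agent.H259.U6

/-- letter `a` -/
abbrev t : Bool := true

/-- letter `b` -/
abbrev f : Bool := false

/-- certificates -/
def D0 : List Crt := [
  ⟨1, 2, [3813, 724, 1857, 3457, 2985, 2717, 3757], [1909, 393, 516, 3577, 3853], [16, 32, 2572, 3844, 3722, 1999,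
    774, 267, 456, 588, 3470, 1735], [999, 377, 2002, 2403, 2286, 3191, 3212, 1220, 1210, 2271, 3631, 1845], [t], 5,
    2577,
    [[f, f, t, f, t, f, t, f], [t, f, t, t, f, t, t, t, f], [t, f, t, f, f, f, f, t, t, f, t, f], [t, f, f, f, t, t,
    t, t, f, f, f, f], [f, f, t, t, f, f, f, t, f], [t, t, f, f, f, f, f]]⟩,
  ⟨1, 3, [1293, 3849, 1369, 789, 2768, 2685], [2125, 2292, 576, 1249, 2209, 3024], [1566, 2855, 2379, 3725, 678,
    1019, 2018, 2419, 3193, 1182, 3420, 1700], [3893, 1306, 1142, 2203, 4084, 1368, 1005, 374, 2642, 4003, 3983,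
    1477], [t, t, f, f, f, f], 6, 1360,
    [[t, f, t, f, t, t, t, t, f], [t, f, f, t, f, t, f, f, f, t, f], [f, f, f, f, t, t, f, t, f, f, f], [t, f, t, t,
    f, t, t, f, f, t, f], [f, f, f, f, f, t, t, t, f, t, f], [f, f, f, t, t, f, f]]⟩,
  ⟨2, 1, [2489, 789, 645, 1545, 3873], [36, 285, 1860, 3117, 756], [687, 1013, 2417, 3730, 869, 442, 2460, 3812,
    1179, 2285, 518, 779], [3887, 1333, 1220, 2120, 452, 584, 4042, 1359, 1490, 2659, 1388, 2740], [t], 9, 1381,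
    [[f, f, t, t, f, t, t, f, f, f], [t, t, f, t, t, t, t, t, f], [f, t, f, f, f, t, t, f, f], [t, t, t, t, f, t, t,
    f], [f, t, t, f, t, t, t, t, t, f], [t, f, t, f, f, f, f, f, t, f, f]]⟩,
  ⟨2, 2, [3172, 3805, 1268, 1936, 3061, 3857], [3757, 1157, 3741, 2565, 1860, 1680], [662, 1003, 1523, 2641, 2124,
    3204, 2061, 3078, 2263, 3177, 1422, 2759], [1611, 2957, 1038, 2055, 1477, 2634, 464, 608, 2899, 3489, 4065,
    1394], [f], 9, 3233,
    [[t, t, t, t, t, t, t], [t, t, t, f, t, t, t, f, f, t, f, t], [t, f, f, f, t, f, t, t, f, f, t], [t, f, t, t, f,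
    t, t, f, t], [t, f, t, f, f, f, f, f, t, f, t], [t, t, t, t]]⟩,
  ⟨2, 3, [1965, 3889, 4033, 2756, 1412, 3713], [2612, 3833, 2989, 3757, 3449, 3741], [1337, 2590, 1953, 2546, 687,
    1013, 3975, 1481, 2392, 3756, 2298, 3167], [58, 31, 1039, 2053, 1305, 2606, 3826, 1875, 3512, 1756, 2286, 3191],
    [t, t, f], 5, 1085,
    [[t, f, f, t, t, f, t, f, t, t], [f, f, f, f, t, f, t, f, t, t], [f, f, t, t, t, f, f, f, f, f], [f, f, f, f, t,
    t, t, t], [t, f, f, t, f, t, f, f], [t, f, f, f, t, t, f, f, t]]⟩,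
  ⟨3, 1, [461, 157, 3833, 1744, 233, 2421], [2825, 3408, 2052, 3141, 1825, 1701], [3303, 1145, 1205, 2266, 2540,
    3700, 2511, 3653, 3257, 1246, 561, 786], [2702, 4039, 1436, 2788, 413, 742, 3263, 1237, 352, 688, 788, 296], [f],
    9, 1661,
    [[f, f, f, f, f, f, f, t], [t, f, f, t, f, f, t, f, t], [f, f, f, t, f, t], [f, f, f, t, f, f, t, t], [t, f, f,
    t, t], [t, t, f, f, f, f, t, f, f, t]]⟩,
  ⟨3, 2, [3957, 80, 3501, 3933, 1860], [85, 3513, 1077, 2025, 2713, 3853], [1031, 2057, 1524, 2648, 688, 976, 3867,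
    1325, 2936, 3484, 2847, 3365], [1305, 2606, 2940, 3476, 1258, 2175, 951, 473, 2895, 3461, 1489, 2658], [t, t, f,
    f, f], 5, 901,
    [[t, f, f, f, f, t, t, t, f], [t, t, f, f, t, t, f, t, t], [t, t, t, f, f], [t, f, f, t], [f, f, t, f, t, f, t,
    t], [t, f, t, t, f, t, f, t, f]]⟩,
  ⟨3, 3, [1293, 2689, 2389, 533, 2112, 20, 3876, 2436], [2749, 2225, 612, 3941, 2409], [818, 275, 2859, 3389, 3531,
    1613, 3043, 3441, 2940, 3476, 1057, 2098], [3253, 1242, 256, 512, 1146, 2207, 2303, 3157, 1031, 2057, 3083,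
    1037], [f], 9, 208,
    [[f, t, t, f, f, f, t], [t, t, f, f, t, f, t], [t, f, t, t, f, t, f, f, t, f, t], [t, f, f, t, t, t, f, t], [t,
    f, t, t, t, t, f, t, t], [f, t, t, f, f, t, t, t, f, f, t]]⟩,
  ⟨4, 1, [1809, 337, 3876, 2429, 4033], [181, 1405, 4077, 153, 3049, 356, 1924], [677, 1018, 788, 296, 1483, 2637,
    1777, 2898, 1850, 2335, 61, 22], [351, 677, 4068, 1400, 490, 639, 3607, 1833, 73, 142, 3571, 1617], [t, f, f, f],
    4, 709,
    [[t, t, f, t, f, t, t, f, f, t, f], [f, f, t, f, f, f, t, f, f], [t, t, t, f, t, f, f], [f, f, t, f, f, t, f, t,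
    f, t], [t, f, f, f, f, f, t, f, t], [t, f, t, t, t, f, f]]⟩,
  ⟨4, 2, [4033, 329, 2901, 805, 1124, 3805], [3169, 3333, 2717, 105, 1860, 2941], [3752, 2044, 1219, 2113, 954, 479,
    2008, 2412, 1311, 2597, 1528, 2652], [490, 639, 735, 869, 3841, 1282, 3571, 1617, 172, 244, 2465, 3826], [t, f],
    9, 3577,
    [[t, f, t, f, t, f, f, f, f], [f, f, t, f, t, t, t, f, t], [t, f, f, t, f, t, f, f, f, t], [t, t, f, t, f, t, t,
    t, f, f], [t, t, t, t, t, f, f, t, f, f], [f, f, t, f, f, t, f, f, t, t]]⟩,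
  ⟨4, 3, [3664, 945, 2228, 372, 2745], [2921, 2273, 3813, 3001, 213, 3797], [899, 449, 3466, 1743, 135, 201, 885,
    410, 1512, 2684, 3614, 1831], [2957, 3526, 3684, 1976, 1306, 2607, 88, 172, 2270, 3175, 3312, 1104], [f], 9, 1844,
    [[t, f, t, f, t, t, t, f, f, t], [t, f, t, f, t, t, t, f, t], [f, t, f, t, f, f, t, t], [t, t, f, t, t, f, f, f,
    f, t, f, t], [t, f, t, t, f, f, t, t, t], [t, f, f, t, f, f, t, t]]⟩,
  ⟨5, 1, [3097, 1668, 2945, 1569, 832, 1773], [3009, 157, 3037, 1509, 1721, 52], [3398, 1675, 3861, 1322, 209, 98,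
    352, 688, 2546, 3667, 510, 599], [3386, 1567, 4017, 1490, 3977, 1486, 1337, 2590, 100, 184, 2335, 3621], [t], 15,
    457,
    [[f, t, f, f, f], [t, f, f, t, t, f], [t, t, t, t, f, t, f, t, f, f, f], [t, f, t, t, t, t, f, f], [t, t, t, f,
    f, t, t, f, f, f], [t, t, t, t, t, t, f, f, f]]⟩,
  ⟨5, 2, [1985, 1040, 33, 2436, 3677], [673, 2689, 3413, 3341, 1329, 3156, 1268, 1389], [2877, 3350, 2548, 3672,
    1279, 2133, 3746, 2035, 3021, 3398, 602, 943], [3222, 1259, 3653, 1930, 3064, 3420, 2417, 3730, 597, 938, 2875,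
    3357], [t, f], 9, 2917,
    [[f, f, t, f, t, t, f, f], [t, f, t], [t, t, t, t, f, t, t, f, f], [t, t, t, t, f, t, t, f, t], [f, t, f, t, f,
    t, f, f, f, f], [f, f, f, t, t, t, f, t]]⟩,
  ⟨5, 3, [1429, 2553, 20, 549, 2109, 1461], [3328, 541, 3753, 1405, 1625, 585], [1679, 3013, 1075, 2065, 2761, 3918,
    2599, 3897, 2874, 3359, 460, 580], [1075, 2065, 1321, 2622, 2674, 3987, 695, 985, 1539, 2817, 1784, 2908], [f],
    15, 3876,
    [[t, f, f, f, t, f, f, f, f, t, t], [f, f, t, t, f, f, f, t, f, t, t], [t, t, t, t, f, f, t, f, f, t], [t, t],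
    [f, t, t, f, t, t, t, t, t], [t, t, t, f, f, f, f, t]]⟩,
  ⟨6, 1, [2713, 1165, 3337, 2353, 756, 1233], [2829, 1121, 3673, 4093, 1988, 3765, 4036], [1257, 2174, 1491, 2657,
    3555, 1649, 2995, 3537, 2622, 3863, 456, 588], [2664, 4028, 3697, 1938, 3902, 1303, 2279, 3193, 357, 698, 1999,
    2373], [t], 15, 1785,
    [[t, f, t, t, f, f, f, f, t, t, f], [f, t, f, f, t, t, f], [t, t, t, f, f, t, f, t, f, f], [t, t, f, f, f, f, f,
    t, f, f, f], [t, f, f, f, f], [t, t, t, f, t, t, f, t, f, f, f]]⟩,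
  ⟨6, 2, [865, 2473, 3925, 3892, 2425, 2537, 1108, 3421], [3417, 4013, 1781, 457, 625, 2852], [1954, 2547, 1606,
    2955, 3389, 1558, 1278, 2135, 521, 782, 1804, 2308], [41, 62, 2994, 3539, 2330, 3631, 3866, 1327, 2889, 3470,
    3028, 3432], [t, f, t, f, f], 6, 1389,
    [[f, f, f, t, t, f], [t, f, f, t, t, f], [f, t, f, f, f, t, f, f], [f, f, t, t, f, f, f, t, t], [f, t, t, t, f,
    f, f, t], [t, t, t, t, f, t, t, f, f]]⟩,
  ⟨6, 3, [2193, 1721, 2580, 3209, 3601, 1785], [2921, 2353, 3925, 3965, 2085, 17], [2548, 3672, 3869, 1318, 2854,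
    3387, 141, 198, 1846, 2331, 2546, 3667], [81, 162, 1264, 2128, 12, 4, 3106, 1075, 3202, 1219, 768, 256], [t, t,
    f], 2, 325,
    [[f, t, t, f, f, t], [f, t, t, t, t, t, t, f, f], [t, f, f, t, t, f, t, t, t], [t, f, t, t, f, f, t, t, f, f],
    [f, t, f, t, f, t, t, t, t], [t, t, f, t, f, f, f, f, f]]⟩,
  ⟨7, 1, [1909, 2321, 1585, 3829, 121, 2457], [709, 1225, 3217, 3845, 3617, 2821], [2842, 3375, 1565, 2854, 64, 128,
    1853, 2326, 1323, 2621, 2839, 3369], [688, 976, 3816, 1916, 964, 328, 3647, 1813, 2238, 3287, 893, 406], [f], 15,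
    1097,
    [[f, t, f, t, f, t, t, t, t], [f, t, t, t, t, f, t, t, t], [f, f, f, f, t, t, t, t, f, t], [t, f, f, t, f, f, f,
    t, f, t], [t, t, f, t, t, t, f, t, f, t], [t, t, t, f, t, t, f, t]]⟩,
  ⟨7, 2, [4029, 109, 3509, 3141, 3873], [17, 2805, 2161, 1732, 2580, 2665, 3593], [3505, 1746, 3571, 1617, 1540,
    2824, 1126, 2235, 1761, 2930, 614, 955], [88, 172, 1865, 2446, 4081, 1362, 2092, 3124, 2233, 3294, 3000, 3548],
    [t, f, f, f], 5, 3501,
    [[f, f, t, f, t, t, f, t, f], [t, t, t, f, f, f, t, t, t], [f, f, t, f, f, t, f], [t, f, f, f, t, t, f, f, t],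
    [t, t, t], [f, f, t, t, t, f, f, t, t]]⟩,
  ⟨7, 3, [1588, 713, 2045, 1433, 2901, 2337], [3509, 36, 3689, 1345, 3136, 1300], [2083, 3121, 2592, 3888, 1358,
    2695, 949, 474, 2482, 3795, 2358, 3611], [1344, 2688, 3471, 1733, 3491, 1777, 1113, 2222, 321, 642, 1325, 2614],
    [f], 12, 3145,
    [[t, t, f, f, f, t, f, f, f, t], [f, f, t, t, t, t, f, f, t, t], [t, f, t, t, t, f, f, t], [t, t, f, f, f, t, f,
    t, t, t], [f, f, t, f, t, t, f, t, t, t], [t, t, f, f, t, t, f, f, t]]⟩]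

theorem chk_D0 : D0.all chk = true := by decide +kernel

/-- certificates -/
def D1 : List Crt := [
  ⟨8, 1, [3593, 1201, 865, 3549, 573, 144], [516, 4073, 3925, 1348, 3780], [349, 678, 786, 291, 572, 788, 3072, 1024,
    912, 480, 877, 438], [2854, 3387, 3175, 1209, 3657, 1934, 1720, 3036, 998, 379, 3697, 1938], [f], 5, 1121,
    [[f, f, t, t, f, f, t, t, f, t], [t, t, t, t, f, f, t, f, f, t], [f, f, f, f, t, t, f, f, t], [f, f, f, t, t, f,
    t, f, t, t], [f, t, f, f, t, f, t, t, t, t], [t, f, f, t, t, f, t, t, f, t]]⟩,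
  ⟨8, 2, [420, 2909, 2729, 4073, 3509, 673], [1424, 2557, 1088, 1012, 1689, 1497, 1601], [1100, 2180, 3795, 1889,
    366, 695, 2615, 3865, 3825, 1874, 2722, 4083], [2420, 3736, 2879, 3349, 2944, 3520, 939, 509, 2040, 2396, 1150,
    2199], [f], 9, 3837,
    [[f, f, f, f, t, f, t, f, t, t, t], [f, f, t, f, f, f, f, f, f, t], [f, t, t, t, t, f, t, t], [f, f, f, t, f, t],
    [f, f, f, f, t, f, f, f, t, t], [f, f, f, t, f, t, t, f, f, t, t]]⟩,
  ⟨8, 3, [3233, 389, 1465, 3705, 2741], [821, 3109, 2805, 3876, 3636, 193], [774, 267, 556, 820, 3954, 1427, 1179,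
    2285, 716, 836, 3844, 1288], [1317, 2618, 3157, 1194, 963, 321, 3181, 1206, 2744, 4060, 1117, 2214], [f], 15,
    1028,
    [[f, f, f, t, t, f, t, f, t, t], [t, f, f, t, f, t, f, t, t], [t, t, t, t, f, t, t, f, t, t, t], [t, t, f, f, f,
    f, f, f, t], [t, f, t, f, t, t, f, t, t], [t, t, t, t, f, t, f, f, f, t]]⟩,
  ⟨9, 1, [2884, 2777, 1637, 465, 2304, 2433], [4013, 500, 1569, 1517, 1725, 2461, 221, 1517], [2308, 3592, 1306,
    2607, 1247, 2149, 3745, 2034, 667, 1005, 1339, 2589], [2660, 4024, 726, 875, 2432, 3776, 1824, 2352, 3291, 1133,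
    2658, 4019], [t], 15, 3205,
    [[t, f, t, f, f, f, t, t, t, f], [t, f, f, f], [t, f, f, t, t, t, f, f], [f, t, t, t, f, t, f, f, f, t, f], [t,
    f, t, f, t, t, f, f, f], [f, t, t, f, t, t, t, f, f, f]]⟩,
  ⟨9, 2, [3797, 3945, 3633, 3472, 2164, 233], [181, 3728, 2533, 2692, 221, 3233, 1533, 3705], [480, 624, 3530, 1615,
    734, 871, 1017, 350, 2062, 3079, 3533, 1606], [2456, 3820, 2307, 3585, 3265, 1090, 1884, 2468, 387, 705, 3796,
    1896], [t, f, f], 9, 2196,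
    [[t, t, f, f, t, f, f, f, f], [t, t, f, f, f, f, t, t, t], [f, t, f, f, f, f, t, t, f], [t, f, f, t, t, t, t, f],
    [f, t, f, f, f, f, t, t, t], [t, f, f, t, t, f, f, f, t]]⟩,
  ⟨9, 3, [2884, 2573, 1097, 565, 2553, 4077], [213, 2825, 2433, 3348, 3713, 3497], [3386, 1567, 61, 22, 1664, 3008,
    2438, 3787, 2862, 3383, 1483, 2637], [3721, 1998, 619, 957, 1042, 2083, 4028, 1492, 3661, 1926, 1422, 2759], [t,
    f, f], 9, 1860,
    [[t, t, t, t, t, f, f, t, f], [f, f, f, t, t, t, f, f, f], [t, f, t, f, t, f, f, t, t], [f, f, t, t, f, t, t, t],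
    [t, f, t, t, t, t, f, t, f], [f, f, f, f, f, t, f]]⟩,
  ⟨10, 1, [1289, 461, 3957, 565, 2593, 3093, 3957, 1725], [965, 3557, 2692, 1629, 3925, 3133], [1700, 3064, 2388,
    3752, 1288, 2572, 3222, 1259, 83, 161, 1211, 2269], [346, 687, 2838, 3371, 1142, 2203, 2740, 4056, 1573, 2874,
    3841, 1282], [t, f], 9, 852,
    [[f, f, f, t, t, f, t], [f, t, t, t, t, f, f], [t, f, t, f, f, f, f, t, t, t], [t, t, f, t, f, f, f, t, f, t],
    [t, f, f, f, t, t, t, t, f, t], [t, t, f, t, f, t, t, t]]⟩,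
  ⟨10, 2, [2372, 325, 2653, 1332, 1509, 1625], [2829, 2129, 645, 2005, 948, 2372], [3161, 1198, 147, 225, 1508, 2680,
    58, 31, 2703, 4037, 857, 430], [2547, 3665, 3410, 1699, 3843, 1281, 244, 88, 662, 1003, 614, 955], [t, t, f], 15,
    153,
    [[t, f, f, t, f, t, t, t], [t, f, t, f], [t, f, t, t, f, t, t, t, t], [t, t, t, t, t, f, f], [f, f, t, f, t, f,
    f, t, f], [f, t, t, t, f, f, t, f, f]]⟩,
  ⟨10, 3, [2433, 1437, 4036, 845, 3705, 2948], [1913, 3693, 1449, 169, 1909, 2253], [667, 1005, 1160, 2252, 1155,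
    2241, 2861, 3382, 2272, 3184, 3392, 1664], [1670, 3019, 2231, 3289, 688, 976, 1617, 2978, 3637, 1818, 2545,
    3666], [t, f], 9, 1753,
    [[t, f, f, t, t, t, t, t], [t, t, t, t, f, f, f, f], [f, t, t, t, f, f, f], [f, f, t, f, t, t, f, f], [f, f, t,
    t, t, t, t, f, f], [t, t, t, t, t, f, f]]⟩,
  ⟨11, 1, [2821, 117, 3236, 20, 169, 2025], [356, 49, 2317, 809, 3925], [3174, 1211, 3042, 3443, 4065, 1394, 1419,
    2765, 2913, 3506, 804, 312], [617, 958, 2244, 3144, 1970, 2515, 290, 563, 1854, 2327, 803, 305], [t, t, f], 5,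
    3156,
    [[f, f, f, f, f, t, t, t], [t, f, f, f, f, f, f, t, f, f], [t, t, f, t, f, f, t, f, f], [t, f, t, t, t], [t, f,
    t, t, f, f, t, f, f], [t, t, t, t, f, t, t, t, t]]⟩,
  ⟨11, 2, [157, 1280, 3005, 3969, 916], [3993, 1501, 1397, 3188, 3709, 3169], [2224, 3280, 2877, 3350, 2898, 3491,
    3266, 1091, 3239, 1273, 879, 437], [3752, 2044, 2345, 3646, 2173, 3222, 624, 912, 456, 588, 682, 1023], [t], 5,
    1445,
    [[t, t, t, f, t, t, t, t, f], [t, f, f, t, f, t, f, f, t, f], [t, t, f, t, f], [t, t, f, f, f, f, f, f, f, f],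
    [t, f, t, f, f, t, t, f, f], [t, f, t, t, f, f, f, t, f, f, f, f]]⟩,
  ⟨11, 3, [557, 2941, 1188, 1924, 3673, 1588, 2749], [1701, 2628, 589, 3989, 208, 1137], [1013, 346, 447, 725, 1814,
    2347, 989, 358, 1090, 2179, 1876, 2472], [3683, 1969, 2759, 3913, 1342, 2583, 3596, 1796, 1029, 2058, 703, 981],
    [t], 5, 3757,
    [[f, f, t, t, t, t, f, f], [t, t, t, t, f, t, f, t, f, t, f, f], [f, t, t, f, t, f, t, f, t, f], [t, f, f, f, f,
    f, f], [f, t, t, t, t, f, f, t, t, f, f, f], [t, f, t, t, f, t, f, t, f, f]]⟩,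
  ⟨12, 1, [884, 1857, 2485, 1572, 1744], [2745, 653, 2225, 676, 2125, 772], [54, 27, 1593, 2846, 3948, 1460, 306,
    531, 697, 990, 2502, 3659], [3553, 1650, 3247, 1269, 3355, 1581, 2516, 3688, 2347, 3645, 261, 522], [t, f, f], 4,
    2756,
    [[f, f, t, t, f, t, f, t, f], [t, t, t, f, t, f, f, t, t, f], [t, f, f, f, f, t, f, f, f, t], [f, t, t, t, f, t,
    f, t], [f, t, t, f, f, t, f, t, t, f], [f, f, t, f, f, f, t, f, f, t]]⟩,
  ⟨12, 2, [1729, 3149, 2117, 2193, 1188, 589], [2489, 1025, 3433, 3737, 1488, 1401, 1949, 977], [2619, 3869, 987,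
    365, 3359, 1573, 3148, 1156, 3027, 3425, 2586, 3887], [708, 840, 864, 432, 3390, 1559, 2261, 3178, 342, 683,
    3412, 1704], [f], 9, 1252,
    [[t, f, f, f, t], [t, f, f, f, f, f, t], [f, t, t, t, t, t, t, f, t, t], [f, f, t, t, f, f, t, t], [t, t, f, f,
    f, f, t, t], [t, t, t, f, t, t, t, t, t]]⟩,
  ⟨12, 3, [3857, 3889, 3156, 1488, 3716, 3817, 805, 3941], [2196, 2309, 2249, 2836, 3949, 3073], [820, 280, 1288,
    2572, 392, 716, 3704, 1948, 1, 2, 1684, 3048], [2263, 3177, 2996, 3544, 3068, 3412, 818, 275, 2503, 3657, 2392,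
    3756], [f], 15, 3597,
    [[t, f, f, f, f, f, f, f, t, t], [t, t, t, f, f, t, f, t], [f, t], [f, t, f, t, t, f, f, t, t], [f, t, f, t, f,
    t, f, f, t], [t, t, f, f, f, f, f, t, t, t]]⟩,
  ⟨13, 1, [3328, 1689, 2704, 2985, 125, 2612, 3737, 2077], [3136, 3493, 3348, 852, 3109, 2821, 1140], [2142, 3239,
    1237, 2154, 449, 578, 3381, 1562, 2988, 3572, 2231, 3289], [2139, 3245, 2202, 3311, 280, 556, 2293, 3162, 3475,
    1761, 2886, 3467], [t, f, f, f], 9, 3449,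
    [[t, f, f, t, f, t, f, f, f, t], [t, t, t, f, t, f], [f, f, f, t, f, f, f, t], [t], [t, t, t, f, f, f, t, t, f],
    [f, f, t, f, t, t, f]]⟩,
  ⟨13, 2, [221, 109, 1201, 2557, 2689, 3316, 1053, 2901], [3269, 676, 2677, 2121, 1757, 1069], [774, 267, 1871, 2437,
    2034, 2387, 1427, 2785, 1120, 2224, 2695, 4041], [2562, 3843, 2953, 3534, 1559, 2857, 168, 252, 3570, 1619, 2307,
    3585], [f], 12, 2049,
    [[t, t, t, t, f, t, f, t, t, t], [t, f, t, t, t, f, t], [f, f, f, t, f, f, f, t, t, t], [t, t, f, f, t, f, t, t,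
    f, t], [f, f, f, t, t, t, t, t], [f, f, f, f, t, t, t]]⟩,
  ⟨13, 3, [1437, 1680, 2289, 1941, 3561, 313], [1249, 3857, 3113, 2793, 2813], [3480, 1772, 3787, 1869, 731, 877,
    3795, 1889, 2869, 3354, 1263, 2165], [1421, 2758, 1197, 2294, 986, 367, 427, 765, 702, 983, 1312, 2608], [t, t,
    f], 6, 1249,
    [[t, f, t, t, f, f, f, f], [f, t, f, f, f, t], [t, f, t, f, f, t, t, f, f, f], [f, f, t, f, f, t, t], [t, t, f,
    f, f, f, f, t, f, f, f], [f, f, t, f, f, f, f]]⟩,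
  ⟨14, 1, [3061, 3333, 1757, 585, 2369, 169], [465, 389, 3573, 193, 2797], [3397, 1674, 3913, 1422, 1482, 2639, 750,
    887, 2099, 3089, 2932, 3480], [3068, 3412, 1292, 2564, 2262, 3179, 3872, 1328, 661, 1002, 3351, 1577], [f], 9,
    2253,
    [[f, t, t, f, f, f, t, t], [f, t, f, t, t, t, f, f, f, f, t], [t, t, f, t, t, t, f, f, t, t], [t, f, f, t, t, t,
    t], [t, t, t, f, t, t, f, t, t], [f, f, t, t, t, t, t]]⟩,
  ⟨14, 2, [625, 1805, 1977, 2069, 2577, 272], [36, 1529, 1045, 2497, 4025], [1428, 2792, 2213, 3322, 677, 1018, 2744,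
    4060, 2561, 3842, 1452, 2804], [2072, 3116, 2506, 3663, 1521, 2642, 2024, 2428, 3924, 1448, 495, 629], [f], 5,
    576,
    [[f, t, f, f, f, f, f, t, f, t], [t, f, f, t, t, t, t, t], [f, t, f, t, f, f, f, f, f, f, t], [f, t, t, t, t, t],
    [t, t, f, f, t, t, t, t, t], [f, t, f, f, t, t, f, t]]⟩]

theorem chk_D1 : D1.all chk = true := by decide +kernel

/-- certificates -/
def D2 : List Crt := [
  ⟨14, 3, [3817, 3769, 13, 2661, 3153, 1545, 3501, 3664], [1641, 1877, 1872, 3972, 3792], [3428, 1720, 3658, 1935,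
    1033, 2062, 729, 878, 3626, 1855, 2818, 3331], [3306, 1151, 599, 937, 3791, 1861, 3662, 1927, 3939, 1457, 3848,
    1292], [f], 9, 709,
    [[f, t, f, t, t, f, t, f, t], [f, t, t, t, t, t, f, f, f, f, t], [t, f, t, t, t, t, f, f, f, f, t], [t, f, f, t,
    f, f, t, t, f, f, t], [f, f, f, f, t, f, f, t, f, t], [f, t, f, f, t, t, f, t, f, f, t, t]]⟩,
  ⟨15, 1, [404, 1549, 3773, 144, 2073, 1289, 1285, 2069], [1061, 3765, 3341, 281, 1553], [3539, 1633, 1845, 2330,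
    643, 961, 1891, 2481, 2853, 3386, 3092, 1064], [801, 306, 1814, 2347, 1874, 2467, 1328, 2576, 3909, 1418, 3241,
    1278], [f], 5, 1629,
    [[f, t, f, f, f, t, f, t, t, t], [t, t, f, f, f, f, t, t, f, t], [f, t, t, t, f, t, f, t, t, t], [f, f, f, f, t,
    f, t, t, t, t], [f, f, f, t, t, t, t], [f, f, f, f, t, t, f, f, t, t, t]]⟩,
  ⟨15, 2, [1397, 277, 1045, 3728, 784], [3076, 1885, 2973, 1797, 3573, 4013], [3726, 1991, 3723, 1997, 2506, 3663,
    501, 602, 3600, 1824, 2293, 3162], [2931, 3473, 2808, 3932, 2229, 3290, 1283, 2561, 1578, 2879, 291, 561], [t,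
    f], 6, 2045,
    [[f, f, t, t, t, t, f, t, f, t], [t, t, f, f, t, f, t, t], [t, f, t, t, f, t, t, f, f, f, f], [t, t, t, t, t, f,
    t, f, t], [f, f, f, f, f], [t, t, f, f, t, t, t, t, t]]⟩,
  ⟨15, 3, [3541, 1941, 2685, 497, 3709, 4077], [3524, 3561, 1188, 3133, 3396, 2625], [2443, 3789, 3225, 1262, 1253,
    2170, 870, 443, 1133, 2230, 1824, 2352], [2556, 3668, 1114, 2223, 597, 938, 1126, 2235, 2307, 3585, 1174, 2283],
    [t, f, f, f, f], 5, 2809,
    [[t, t, f, t, t, t, t], [t, f, f, f, f, t, f], [f, t, f, t], [t, t, t, f, t, f], [f, t, t, f, f, f, t, t, t], [t,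
    f, t, t, f, f]]⟩,
  ⟨16, 1, [916, 3821, 3857, 1429, 3457, 2069, 3965], [1265, 3984, 132, 3769, 1252, 884], [3856, 1312, 3756, 2036,
    425, 766, 2035, 2385, 2297, 3166, 1408, 2752], [3286, 1131, 3726, 1991, 1715, 3025, 2837, 3370, 1824, 2352, 530,
    803], [t, f, f], 9, 1517,
    [[t, f, f, t, f, f, t, f, t, f], [t, f, t, t, f, t], [f, f, f, f, t, f, f, f], [f, t, t, t, t, t, t, f, f, t],
    [t, t, f, f, t, t], [f, t, t, t, t, f, f, t]]⟩,
  ⟨16, 2, [433, 1601, 2425, 2249, 1809, 20, 1924, 3813], [1588, 821, 2064, 2577, 3925], [3366, 1595, 3816, 1916,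
    1634, 2995, 833, 386, 1206, 2267, 3698, 1939], [2114, 3203, 598, 939, 886, 411, 3083, 1037, 3208, 1228, 699,
    989], [t, f, f, f], 5, 829,
    [[f, t, f, f, f, t, f, f], [f, f, f, f, f, t, t, t, t, f], [f, t, f, f, t, f, f, f, t, t, f], [f, t, f, f, t, t,
    t, t, f, t], [f, f, f, t, t, f, f, t, f], [f, t, t, t, f, t, t, f, t, f]]⟩,
  ⟨16, 3, [245, 2309, 2797, 481, 3136, 1293], [3929, 313, 285, 105, 537, 1757], [3197, 1174, 803, 305, 767, 853, 886,
    411, 3317, 1114, 1228, 2116], [1317, 2618, 3112, 1084, 3427, 1713, 3937, 1458, 1562, 2863, 899, 449], [t, t, f],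
    9, 3472,
    [[f, f, t, f, f, f, f, f], [f, f, t, t, f, f, f, f, f, f], [t, f, f, f, f, f, t, t], [f, f, f, f, t, t, f, t],
    [t, f, t, f, t, t, t], [t, t, t, f, f, f, f, t, f]]⟩,
  ⟨17, 1, [404, 353, 740, 3053, 3728, 2109], [144, 596, 3437, 1812, 3413, 645], [1164, 2244, 2684, 3988, 1380, 2744,
    998, 379, 470, 619, 787, 289], [2858, 3391, 1460, 2776, 2235, 3293, 2944, 3520, 460, 580, 3918, 1415], [t], 15,
    2789,
    [[t, t, t, f, f, f, f], [t, f, t, t, t, t, t, t, f], [f, t, t, t, f, f], [f], [t, t, f, t, f, t, f, t, t, f], [f,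
    t, f, f]]⟩,
  ⟨17, 2, [2393, 2741, 809, 3845, 3573, 1085, 233], [1857, 3589, 3012, 36, 157], [3198, 1175, 531, 801, 1247, 2149,
    1096, 2188, 487, 633, 959, 469], [3794, 1891, 75, 141, 410, 751, 2804, 3928, 518, 779, 2885, 3466], [t], 9, 3780,
    [[t, t, t, t, f, t, f], [t, t, f, t, t, f], [f, f, t, t, t, f, f], [f, t, t, t, t, f, f], [f, f, t, f, t, f, f,
    t, f, f, f], [f, f, t, t, f, f, f, t, t, f, f]]⟩,
  ⟨17, 3, [2037, 2821, 1629, 3313, 513, 1140], [393, 1689, 3561], [3928, 1452, 1059, 2097, 291, 561, 53, 26, 163,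
    241, 1423, 2757], [2808, 3932, 1443, 2801, 3223, 1257, 2889, 3470, 414, 743, 1577, 2878], [t], 15, 797,
    [[f, f, f, t, f, t, f, t, f, f], [t, f, f, t, f, t, t, t, f, f], [t, f, t, f, t, f, t, f, f, f], [t, f, t, f, t,
    t, f, f], [f, t, f, t, t, t, t, t, f, f], [f, f, t, t, f, f, t, f, f, f]]⟩,
  ⟨18, 1, [3741, 49, 1893, 356, 3849, 3460, 2653, 2085], [3033, 2196, 1093, 737, 3460, 676, 3220, 404], [1362, 2723,
    1607, 2953, 3666, 1955, 3505, 1746, 3000, 3548, 57, 30], [1853, 2326, 3287, 1129, 562, 787, 3208, 1228, 2359,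
    3609, 1206, 2267], [f], 6, 2052,
    [[f, t, f, f, t, t, t, f, t], [f, f, t, f, f, t, t, f, t], [t, t, t, t, t, f, t, f, f, t, t], [t, t, f, f, f, t,
    f, t], [f, t, f, t, f, f, t, t], [f, f, f, t, t, f, f, t, t, f, f, t]]⟩,
  ⟨18, 2, [549, 1860, 9, 3029, 772, 2196], [1433, 1293, 2125, 1625, 2089, 649], [2281, 3198, 2402, 3763, 3596, 1796,
    3183, 1205, 703, 981, 2137, 3246], [766, 855, 1768, 2940, 3632, 1808, 3783, 1865, 3312, 1104, 2930, 3475], [t, t,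
    f], 9, 3765,
    [[f, f, f, t, t, f, f, t, f, f], [f, t, f, t, f, t, t], [t, f, t, f, t, f, f, f, t], [f, f, t, t, f, f, t], [t,
    t, t, t, t, t, f, f], [t, f, t, t, f, t, t, f, f]]⟩,
  ⟨18, 3, [3945, 2628, 2537, 1285, 1588], [3892, 3281, 497, 5, 2997, 673], [2482, 3795, 1037, 2054, 912, 480, 3646,
    1815, 4083, 1361, 2623, 3861], [2621, 3862, 1393, 2706, 670, 999, 3974, 1483, 2206, 3303, 1512, 2684], [f], 9,
    772,
    [[t, f, t, t, f, f, f, f, f, f, t], [f, f, t, f, t, t, t], [t, f, t, t, f, t, t, t, f, t], [f, f, f, t, f, t, t],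
    [f, t, f, f, t], [f, t, t, t, f, t, t, t, f, t]]⟩,
  ⟨19, 1, [3845, 3213, 3749, 3437, 2533, 1045], [3117, 3088, 2089, 1917, 3989, 1725, 3093], [3745, 2034, 605, 934,
    3367, 1593, 71, 137, 2637, 3974, 972, 324], [284, 548, 2278, 3195, 3321, 1118, 3230, 1255, 3019, 3405, 3059,
    3409], [t], 15, 2973,
    [[f, t, t, f, f, t, f, f, t, f], [t, f, t, f, t, f, t, f], [f, f, f, t, f, f, f, t, f], [f, t, t, t, t, f, f, f,
    f], [t, t, f, t, t, f, t, f, f], [f, f, f, f]]⟩,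
  ⟨19, 2, [2960, 1744, 2793, 1917, 125, 2276], [3045, 1653, 68, 2121, 1977, 829, 1293, 2713], [2737, 4050, 1384,
    2748, 2198, 3307, 1197, 2294, 774, 267, 1243, 2157], [2158, 3255, 1884, 2468, 3968, 1472, 2572, 3844, 639, 917,
    2438, 3787], [t], 15, 3088,
    [[f, f, f, f, f, t, f], [t, f, t, f, t, f, f, f, f, f], [f, f, f, f, f, f, f, t, f], [f, f, t, f, f, f, f, t, f,
    f, f, f], [f, t, t, t, f, f, f, f, f], [t, t, f, f, t, t, t, f, f]]⟩,
  ⟨19, 3, [549, 2356, 1553, 3845, 845, 596], [353, 1973, 1744, 2425, 2717], [1359, 2693, 1243, 2157, 351, 677, 1372,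
    2724, 2401, 3762, 1819, 2349], [3470, 1735, 1232, 2144, 1043, 2081, 3059, 3409, 479, 613, 2299, 3165], [t, f, f],
    4, 2228,
    [[t, t, f, t, t, f, f, f, t], [f, t, t, f, f, f, t], [f, t, f, t, f, f, f, f, f, f], [t, f, t, f, t, t, t, t, f],
    [f, t, t, f, f, f, t, f, t, f], [f, f, f, t, f, t, t]]⟩,
  ⟨20, 1, [2129, 1705, 913, 3065, 3117], [973, 2321, 1781, 772, 3636, 3277, 1917, 996], [4019, 1489, 1955, 2545, 526,
    775, 1393, 2706, 2392, 3756, 2137, 3246], [3776, 1856, 2184, 3276, 1104, 2208, 767, 853, 2178, 3267, 2346, 3647],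
    [f], 9, 109,
    [[t, t, f, t, f, f, t], [t, f, f, f, t, f, f, t], [t, f, t, f, f, t, f, f, t], [t, t, f, t, f, t], [f, f, f, f,
    t, f, f, f, t], []]⟩,
  ⟨20, 2, [181, 2253, 249, 2829, 1812, 2045, 89, 1949], [549, 1729, 1188, 929, 1165], [1247, 2149, 1851, 2333, 1491,
    2657, 2192, 3296, 226, 115, 1607, 2953], [1239, 2153, 3385, 1566, 3044, 3448, 446, 727, 3441, 1682, 3470, 1735],
    [t, t, t, f], 15, 740,
    [[f, f, t, t, t, t, f, t, f], [f, t, f, t, t, t], [f, f, t, t, t, f, t, t, t, f, f, t], [f, f, f, f, f, t], [f,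
    f, t, t, f], [t, t, t, t, f, t, t, t]]⟩,
  ⟨20, 3, [2905, 3185, 2009, 2704, 1429, 1616], [4061, 1881, 945, 2132, 3153, 1988], [139, 205, 3442, 1683, 1359,
    2693, 2608, 3856, 3913, 1422, 1906, 2451], [3667, 1953, 763, 861, 904, 460, 1277, 2134, 2468, 3832, 316, 532],
    [t, t, t, f], 9, 3145,
    [[f, f, f, f, f, t, f, f, f, f, f], [f, f, f, t, t, f, t, t, t], [f, f, t, t, f, t, t, f], [f, f, t, f, t, f],
    [f, f, t, f, t], [t, f, t, t, f, t, f, f, f]]⟩,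
  ⟨21, 1, [881, 1545, 1749, 389, 901, 905], [2541, 1293, 1461, 3377, 1945], [3637, 1818, 3469, 1734, 3161, 1198,
    2899, 3489, 898, 451, 3648, 1920], [3175, 1209, 3587, 1793, 3684, 1976, 635, 925, 985, 366, 1021, 342], [f], 6,
    660,
    [[f, f, t, t, t], [f, t, f, f, f, t, t, t], [f, t, f, t, f, t, f, t], [t, f, f, f, t, t, f, t, t, t, t], [f, t,
    f, f, f, t, t, t, t], [f, f, t, t, f, t, t]]⟩]

theorem chk_D2 : D2.all chk = true := by decide +kernel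

/-- certificates -/
def D3 : List Crt := [
  ⟨21, 2, [144, 297, 2741, 2768, 3925, 832], [3361, 1077, 17, 2245, 2493], [2788, 3960, 2223, 3317, 1908, 2456, 547,
    817, 4037, 1354, 2040, 2396], [2886, 3467, 3366, 1595, 450, 579, 2139, 3245, 908, 452, 765, 854], [f], 5, 1604,
    [[f, f, f, f, f, f, t], [t, t, f, t, f, t, f, f, t, t], [f, f, f, t, f, f, f, f, t, t], [f, f, t, f, t, f, f, f,
    f, t], [f, t, t, f, f, t, t, f, t], [f, t, f, t, t, f, t, t]]⟩,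
  ⟨21, 3, [65, 2276, 2849, 2112, 1345, 2196], [2580, 2189, 2457, 673, 1249, 4057], [4051, 1377, 879, 437, 2450, 3811,
    2428, 3732, 2115, 3201, 2591, 3877], [1956, 2552, 2516, 3688, 3885, 1334, 1013, 346, 2688, 4032, 2231, 3289],
    [f], 4, 581,
    [[t, t, f, f, t, f, f, f, t], [f, t, t, f, t, t, t], [t, t, f, f, t, t, t], [t, f, f, t, t, f, f, f, t], [t, f,
    t, t, t, t], [f, f, t, f, t, f, f, f, t, t]]⟩,
  ⟨22, 1, [3853, 3925, 2453, 2681, 3577, 3565], [3677, 3933, 3156, 1773, 2781, 1945, 2353], [2215, 3321, 1496, 2668,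
    1035, 2061, 1379, 2737, 870, 443, 1262, 2167], [606, 935, 1191, 2297, 21, 42, 69, 138, 2472, 3836, 3746, 2035],
    [f], 5, 80,
    [[t, t, f, t, f, f, f, t, f, t], [f, f, t, t, t, f, f, f, f, t], [], [f, t, t, f, t], [f, f, t, f, f, f, t], [f,
    t, f, f, f, f, t, f, t]]⟩,
  ⟨22, 2, [913, 1488, 2541, 3485, 3541, 581], [2132, 2317, 2085, 692, 2212, 2245], [877, 438, 510, 599, 414, 743,
    1980, 2516, 2262, 3179, 1793, 2306], [12, 4, 801, 306, 1762, 2931, 2403, 3761, 592, 928, 2576, 3872], [t, t, f,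
    f], 9, 1188,
    [[t, f, f, t, f, f, t, f], [t, t, f, t, t, t], [t, f, f, f, f], [t, f, f, t, f, f], [t, t, f, t, f, f, f], [f, f,
    t, f, t, t, f, t, f]]⟩,
  ⟨22, 3, [909, 740, 2645, 417, 3012], [813, 649, 1313, 3997, 709], [1831, 2361, 1483, 2637, 206, 71, 1619, 2977,
    3276, 1092, 2141, 3238], [1317, 2618, 3221, 1258, 2639, 3973, 1089, 2178, 922, 495, 2184, 3276], [t, f], 9, 2253,
    [[t, t, t, t, f, t], [f, t, f, f, f, f, t, f, t], [f, f, t, t, t, f, f, f], [f, t, f, t, f, f, t, f, f, f], [t,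
    f, f, t, t, t, t], [t, t, t, f, t, f, f, t, t, t]]⟩,
  ⟨23, 1, [3889, 2005, 1040, 2609, 1053, 1805], [3277, 1828, 1293, 20, 2273, 1093], [1822, 2343, 619, 957, 1126,
    2235, 2346, 3647, 2864, 3344, 3531, 1613], [1258, 2175, 4008, 1532, 1388, 2740, 2540, 3700, 2419, 3729, 778,
    271], [t, f, f, f], 5, 2525,
    [[t, t, f, t, t, t, f, t, f], [f, f, t, t, t, f, f, t], [t, f, t, f, f], [f, t], [t, f, f, t, t], [t, f, f, f, f,
    f, f]]⟩,
  ⟨23, 2, [89, 1293, 2485, 2253, 2925, 3109], [1497, 2253, 65, 2461, 196, 17], [416, 752, 3072, 1024, 954, 479, 671,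
    997, 385, 706, 844, 388], [3223, 1257, 1432, 2796, 3894, 1307, 1699, 3057, 3463, 1737, 683, 1021], [t, f], 9, 689,
    [[f, f, f, f, f, f, t, t, f, f], [f, t, f, t, f, f, t, f, f, t], [f, t, f, f, t, t, f, f, f, t], [f, f, f, t, f,
    f, f, f], [f, t, t, t, t, t, f, f, f, t], [f, f, f, t, f, t, f, f, f, f]]⟩,
  ⟨23, 3, [313, 4036, 1881, 2145, 1572, 969], [208, 2909, 3281, 916, 1809, 1569], [864, 432, 1034, 2063, 3182, 1207,
    346, 687, 490, 639, 1213, 2262], [470, 619, 1938, 2531, 3085, 1030, 1865, 2446, 2984, 3580, 1673, 3022], [t, f],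
    9, 3217,
    [[t, t, t, f, t, f, t, t], [t, t, t, t, f, f, f, t, f, t], [t, f, f, f, t, t, t, f, t], [f, f, t, t, t, f, t, f,
    f, f, f], [f, t, f, t, f, f, f, f], [f, t, f, t, f, f, f]]⟩,
  ⟨24, 1, [2749, 2941, 2228, 3997, 3172, 2049], [585, 1437, 1124, 573, 2064], [1274, 2143, 1491, 2657, 1178, 2287,
    1500, 2660, 778, 271, 3290, 1135], [3888, 1296, 2964, 3560, 1900, 2484, 1008, 336, 2, 3, 548, 824], [t, t, f, f],
    4, 340,
    [[f, f, f, f, t], [f, t, t, f, t, f, f, t], [t, f, t, t, t, f, f, t, t], [f, f, f, t, f, f, f, f, t, f], [t, f,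
    t, f, t, f], [f, t, t, t, f, f, t, t, f]]⟩,
  ⟨24, 2, [4013, 333, 2612, 3460, 2965, 1293], [1604, 3573, 2021, 2260, 2896], [1114, 2223, 3216, 1248, 1005, 374,
    2894, 3463, 1057, 2098, 2979, 3569], [2614, 3867, 3732, 2024, 2890, 3471, 134, 203, 321, 642, 415, 741], [t, t,
    f], 9, 1985,
    [[t, t, t, f, t, f, f, t, f, f, f], [f, t, f, f, f, t, t, f, f, t], [t, f, t, f, t, t, t], [f, t, t, t, f, t, t,
    t, f, f, f], [f, f, t, t, t, f, t, f, f], [t, t, f, t, f, t, f, f, f, t]]⟩,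
  ⟨24, 3, [2132, 193, 4048, 3133, 1397, 3993, 1465, 33], [484, 3421, 1049, 1028, 3993, 2969], [1697, 3058, 953, 478,
    3534, 1607, 2298, 3167, 2740, 4056, 1327, 2613], [1617, 2978, 2597, 3898, 1500, 2660, 3746, 2035, 4051, 1377,
    207, 69], [t, f], 15, 2797,
    [[t, f, t, f, t, t], [f, f, t, t, t, f, f, f], [t, f, t, f, f, f], [f, t, t, f, t, t, f, t], [t, t, t, t, t, f,
    t], [t, t, f, f, f, f]]⟩,
  ⟨25, 1, [1233, 1828, 1860, 1293, 393, 181], [3664, 1249, 1097, 2077, 3524, 837], [1980, 2516, 3124, 1048, 685,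
    1014, 1425, 2786, 3844, 1288, 3627, 1853], [2368, 3712, 1636, 3000, 341, 682, 2308, 3592, 1606, 2955, 2167,
    3225], [t, f, f], 6, 2313,
    [[f, f, f, f, t, f, f, t], [t, f, f, t, f, t, f, f, f, f, t], [f, t, t, f, t, f, t, t, f, f, f], [t, t, t, t, t,
    f, t, f], [t, t, f, t, t, t, f, t, f], [t, t, f, t, t, f]]⟩,
  ⟨25, 2, [85, 3705, 2164, 945, 1300], [2389, 4073, 2457, 1909, 461, 3477], [2447, 3781, 1238, 2155, 2033, 2386,
    2076, 3108, 1109, 2218, 614, 955], [1217, 2114, 2213, 3322, 2358, 3611, 2237, 3286, 1013, 346, 2008, 2412], [t],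
    5, 1300,
    [[t, t, f, f, t, f, f, t, f], [f, f, f, f, f, t, t, t, t, f], [f, t, t, f, f, f, t, t, t, f, f], [t, t, t, f, t,
    t, t, t, f], [t, f, t, f, t, f, t, f, f, f, f], [t, t, f, t, f, t, t, f]]⟩,
  ⟨25, 3, [2145, 2005, 3933, 80, 932, 3393], [1453, 185, 3333, 1285, 717, 277], [2179, 3265, 1681, 3042, 3641, 1822,
    3683, 1969, 366, 695, 1660, 2964], [985, 366, 2072, 3116, 621, 950, 2377, 3726, 3746, 2035, 859, 429], [f], 15,
    1401,
    [[t, t, f, t, t, t, t, t, t, t], [t, f, f, t, f, t, f, f, t], [f, t, f, t, f, t, t, f, t], [t, t, t, t, f, t, f,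
    t], [f, t, t, t, f, t, f, t, f, t], [f, t, t, t, f, f, f, f, t]]⟩,
  ⟨26, 1, [3065, 2905, 724, 17, 3933, 969], [2665, 2413, 1805, 3792, 3037], [1568, 2864, 3879, 1337, 410, 751, 1400,
    2716, 2100, 3096, 1613, 2950], [1135, 2229, 730, 879, 2428, 3732, 3828, 1880, 2012, 2404, 2305, 3586], [f], 3,
    208,
    [[f, f, t, t, t, t, f, t, f, f, t], [f, f, t, f, f, t, t, f, t, f, f, t], [f, t, t, f, t, t, f, f, f, t], [t, t,
    f, t, t, f, t, t, t, t], [f, t, f, t, f, f, f, f, f, t], [f, t, t, f, t, t, f, f, f, f, t]]⟩,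
  ⟨26, 2, [4021, 1769, 1773, 3581, 1709, 2933], [33, 3705, 2045, 3664, 2093, 1797], [3026, 3427, 1147, 2205, 652,
    964, 1378, 2739, 2589, 3878, 1683, 3041], [4083, 1361, 1457, 2770, 1143, 2201, 1908, 2456, 265, 526, 3730, 2019],
    [t, f], 4, 516,
    [[f, t, t, f, t, f, f, t], [t, t, t, f, f, f, t], [t, t, t, f, t, f, f, f, f, t], [f, t, f, f, f, t, t, f, f],
    [t, t, t, f, f, t, f, t], [f, t, f, t, t, f, t, f, t]]⟩,
  ⟨26, 3, [1653, 1473, 516, 2397, 3860, 3557], [3965, 1533, 533, 1789, 657], [2201, 3310, 3077, 1034, 3537, 1634,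
    1720, 3036, 437, 730, 1191, 2297], [2221, 3318, 1594, 2847, 2561, 3842, 986, 367, 2712, 4076, 3389, 1558], [t, f,
    f, f], 9, 1545,
    [[t, f, t, f, f, t, t, t], [f, f, t, f, f, t, t, f, t], [f, t, f, t, t, f, f, t, f], [f, f, t, f, t, f, f, f, f,
    f], [t, f, f, f, t, f, t], [f, t, t, f, t, t, t, f, t, f]]⟩,
  ⟨27, 1, [420, 2356, 369, 3281, 2253, 3716, 913, 673], [1088, 832, 1332, 2485, 1725], [3826, 1875, 1558, 2859, 2643,
    4001, 3516, 1748, 1635, 2993, 141, 198], [934, 507, 638, 919, 3441, 1682, 350, 679, 1156, 2248, 3389, 1558], [t,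
    f, f], 5, 3949,
    [[t, f, t, f, t, t, t, t, f, t, t], [f, f, f, f, f, t, t, t, f, f, f], [f, f, f, t, t, t, t, t, t], [f, f, f, t,
    f], [t, f, f, f, t, f, f, f, f, t], [f, t, t, t, t, t, f, f, t, f]]⟩,
  ⟨27, 2, [101, 237, 2112, 645, 3984, 1069, 1233, 2596], [3129, 2089, 2565, 1053, 2948], [3266, 1091, 2468, 3832,
    1043, 2081, 1620, 2984, 2732, 4084, 242, 83], [3132, 1044, 1427, 2785, 2591, 3877, 3086, 1031, 2271, 3173, 855,
    425], [f], 5, 1424,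
    [[t, t, f, t, f, f, f, f, t], [t, f, t, f, t, f, t, f, f, t], [f, t, f, f, t, f, f, t, t], [t, t, t, f, t, f, f,
    t], [t, f, t, t, t, t, t], [f, t, f, t, f, t, f, f, f, f, t]]⟩,
  ⟨27, 3, [2013, 3313, 3673, 3269, 3145], [181, 20, 2461, 2448, 1233], [992, 368, 1175, 2281, 2587, 3885, 2862, 3383,
    3882, 1343, 3017, 3406], [1195, 2301, 3600, 1824, 3370, 1599, 1779, 2897, 305, 530, 2441, 3790], [f], 5, 125,
    [[f, t, t, f, f, t, t, f, t, f, t], [t, f, t, t, t, f, t, f, f, f, t], [t, t, f, t, t, t, t, f, t, f, t], [f, t,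
    t], [t, f, t, t, f, f, t], [f, t, f, f, t, t, f, f, t]]⟩]

theorem chk_D3 : D3.all chk = true := by decide +kernel

/-- certificates -/
def D4 : List Crt := [
  ⟨28, 1, [996, 2729, 3541, 2045, 569, 1124], [1757, 109, 1689, 3449, 157, 2489], [1920, 2496, 922, 495, 3189, 1178,
    3642, 1823, 1838, 2359, 3606, 1835], [3979, 1485, 2812, 3924, 2243, 3137, 3227, 1261, 2063, 3077, 991, 357], [f],
    15, 2321,
    [[f, f, t, t, f, f, t], [t, t, t, f, t, f, f, t], [f, f, t, f, t, f, f, f, t], [f, t, t, t, t, f, t, t], [t, f,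
    t, t, f, f, f, f, t, t], [t, t, f, t, t, f, t, f, t]]⟩,
  ⟨28, 2, [4073, 3941, 85, 4036, 948], [3589, 2669, 2541, 2289, 149, 3333], [1378, 2739, 928, 496, 2957, 3526, 2214,
    3323, 1380, 2744, 2848, 3376], [3462, 1739, 3534, 1607, 3812, 1912, 1075, 2065, 3726, 1991, 413, 742], [t, f, f],
    9, 2921,
    [[f, f, t, f, t, f, f, f], [f, t, t, f, f, t, t, f], [f, t, t, t, t, t, t], [t, f, f, t, f, t, f, f, t], [t, t,
    f], [f, t, f, t, f, f, f, f]]⟩,
  ⟨28, 3, [257, 2393, 3620, 3969, 1493], [1857, 3669, 1545, 129, 2537, 1637], [2177, 3266, 3731, 2017, 2748, 4052,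
    1458, 2771, 3812, 1912, 308, 536], [3452, 1684, 890, 415, 3321, 1118, 4081, 1362, 3390, 1559, 1423, 2757], [t, f,
    f], 5, 2749,
    [[f, t, f, f, f, t, t, t], [f, f, f, f, t, t, f], [f, f, f, t, f, f, f, f, f, t], [t, t, f, t, t, t], [f, t, t,
    f, f, t, t, t, f], [f, f, t, f, f, f, f, t, f]]⟩,
  ⟨29, 1, [3792, 1077, 717, 1588, 3136], [1773, 2225, 65, 3577, 2525, 3620], [1875, 2465, 2951, 3529, 2159, 3253,
    2341, 3642, 3508, 1752, 606, 935], [944, 464, 2602, 3903, 3894, 1307, 2599, 3897, 1472, 2624, 2144, 3248], [f],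
    15, 3589,
    [[t, f, f, f, t, f, t, t, f, t], [f, f, t, f, t, t, t, f, t, t, t], [f, t, f, t, t, t, f, f, t, f, t], [f, t, t,
    f, t, f, f, t], [t, f, t, f, f, t, t, f, t, f, t], [f, f, f, t]]⟩,
  ⟨29, 2, [285, 3949, 849, 1885, 2384, 3188], [1097, 1360, 1085, 420, 3677], [925, 486, 2703, 4037, 3811, 1905, 2334,
    3623, 2608, 3856, 3089, 1058], [3490, 1779, 1042, 2083, 3265, 1090, 1017, 350, 2137, 3246, 1620, 2984], [t, f, f,
    f], 5, 461,
    [[t, f, t, t, t, f, t, f, f], [f, f, t, f, t, t], [t, t, f, f, f, f], [t, f, t, f, f, t, t, f], [f, t, f, f, f,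
    f], [t, t, f, t, f, t, t, f, t]]⟩,
  ⟨29, 3, [1973, 3273, 2045, 2093, 3765], [320, 2609, 3313, 3652, 2777], [1821, 2342, 248, 92, 1311, 2597, 1574,
    2875, 2802, 3923, 1413, 2762], [421, 762, 3804, 1892, 1861, 2442, 1119, 2213, 1889, 2482, 2341, 3642], [t], 9,
    4073,
    [[t, t, f, t, t, f, f, t, t, t, f], [f, f, t, f, f, t, f, f, f], [t, f, f, t, t, f, t, f], [f, f, f, f, t, t, t,
    f, f], [f, f, f, f, f, t, f], [f, t, t, f, f, t, f, f]]⟩,
  ⟨30, 1, [2313, 2121, 3601, 653, 3012, 1685, 3297, 2212], [3429, 1977, 1965, 2625, 3497, 969], [2721, 4082, 3238,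
    1275, 267, 525, 3924, 1448, 991, 357, 746, 895], [3596, 1796, 3825, 1874, 3913, 1422, 441, 734, 3960, 1436, 1092,
    2184], [t], 15, 2073,
    [[t, f, f, t, f, f, t, f, f], [f, f, t, t, f, t, f, f, f], [t, t, t, t, f, f, f, t, f, f], [t, t, t, t, f, f, t,
    t, t, f], [t, f, t, f, f, t, f, t, f, f], [f, t, f, t, f, t, f, f, f, t, f]]⟩,
  ⟨30, 2, [393, 1185, 4089, 1332, 169, 1348], [1385, 3876, 320, 2689, 500, 645], [1600, 2944, 2857, 3390, 2217, 3326,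
    470, 619, 503, 601, 479, 613], [1980, 2516, 3793, 1890, 413, 742, 3605, 1834, 1935, 2501, 1147, 2205], [f], 15,
    2512,
    [[f, f, t, f, f, t, f, f, f, f, t], [f, t, t, t, t, f, f, t, t, f, t], [t, t, t, t, f, t, f, t, f, t], [t, f, f,
    t, t, f, f, t], [f, f, f, f, t, t, f, t, f, t, t], [f, f, t, f, t, f, t, f, t, t]]⟩,
  ⟨30, 3, [1973, 3757, 3049, 401, 2917, 2041, 1433, 2741], [1860, 17, 340, 1909, 977, 2433], [1824, 2352, 2239, 3285,
    2509, 3654, 3657, 1934, 2437, 3786, 447, 725], [2281, 3198, 2266, 3183, 1190, 2299, 1796, 2312, 2496, 3648, 456,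
    588], [f], 3, 3156,
    [[f, f, f, t], [f, t, f, t, f, t, t, t, t], [t, f, t, t, t, f, t], [t, t, t, t, f, t, t, t], [f, f, f, f, f, t,
    t, f, f, t], [f, t, f, t, t, t, t, t, f, t]]⟩,
  ⟨31, 1, [3485, 1221, 468, 401, 3969], [3577, 1509, 585, 4005, 1252], [3492, 1784, 2184, 3276, 2979, 3569, 1737,
    2894, 1575, 2873, 460, 580], [3544, 1644, 2316, 3588, 2776, 3948, 1, 2, 3712, 1984, 2336, 3632], [t], 9, 301,
    [[f, t, f, f, f, t, f], [f, f, f, f, f, f, f, f], [f, f, f, t, f, t, t, f, f], [f, t, t, t, t, f, t, f, t, f],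
    [t, t, t, t, f, f, f, t, f, f], [f, t, t, t, t, t, f, t, f, t, f]]⟩,
  ⟨31, 2, [2089, 1844, 3545, 1493, 4069], [2625, 3364, 1588, 3716, 1668, 2064], [409, 750, 503, 601, 22, 43, 3730,
    2019, 1355, 2701, 3068, 3412], [2624, 3968, 1916, 2452, 3856, 1312, 1261, 2166, 925, 486, 3811, 1905], [t, t, t,
    f], 9, 1781,
    [[f, f, t, f, t, t, f, t], [t, f, t, f, t, t, f, t, t], [t, f, f, f, f, t, f, f], [t, f, t, t, t], [f, f, f, f,
    f, t, t, f, t], [f, f, f, f, t, t, t, t, t]]⟩,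
  ⟨31, 3, [565, 1625, 1265, 3817, 1781, 2105], [121, 1701, 1397, 3109, 3753], [2770, 3939, 4020, 1496, 941, 502,
    2509, 3654, 1043, 2081, 2033, 2386], [3058, 3411, 2175, 3221, 3809, 1906, 1273, 2142, 1472, 2624, 27, 45], [f],
    5, 1769,
    [[t, t, t, t, t, t, t, f, f, t], [f, f, t, f, f, t, t, t], [t, f, f, t, f, t, t, f, t], [t, f, t, f, t, t, t],
    [f, f, f, t, t, t, f, t, t, t, t], [t, f, f, t, t, t]]⟩,
  ⟨32, 1, [272, 3188, 2276, 433, 3429, 977, 3845], [1585, 660, 65, 132, 645, 2768], [1, 2, 2920, 3516, 3756, 2036,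
    2804, 3928, 2968, 3564, 1784, 2908], [3877, 1338, 3611, 1837, 579, 897, 3647, 1813, 1254, 2171, 3996, 1508], [t,
    f], 9, 3117,
    [[t, f, f, f, f, t, f, f], [f, f, f, f, t, f, t, t, t], [f, t, f, t, t, f, f, f, t], [t, t, f, f, t, t, t, f, f,
    t], [f, t, f, f, f, f, f, t, f, f], [t, t, f, f, f, f]]⟩,
  ⟨32, 2, [1088, 2125, 2557, 3300, 3097], [3517, 80, 1541, 3213, 3149], [2995, 3537, 3489, 1778, 1512, 2684, 1283,
    2561, 1147, 2205, 886, 411], [1205, 2266, 773, 266, 2859, 3389, 2891, 3469, 1892, 2488, 1793, 2306], [f], 5, 1028,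
    [[t, f, t, t, t, f, f, f, f, t, t], [f, t, f, f, f, f, t, t], [f, f, f, t, f, f, t, t], [t, t, t, f, f, f, f, f,
    t], [f, t, t, f, f, f, f, t, f, t, t], [f, f, f, t, t, f, f, f, t, t]]⟩,
  ⟨32, 3, [689, 1572, 3012, 2181, 1369, 129], [2569, 3860, 4069, 1108, 2313, 1689], [490, 639, 3480, 1772, 205, 70,
    54, 27, 1151, 2197, 3442, 1683], [777, 270, 870, 443, 300, 564, 1143, 2201, 1873, 2466, 1830, 2363], [t, f, f],
    9, 1121,
    [[f, t, t, t, t, t], [f, t, t, t, f, f, t], [f, f, f, f, f, f, t, f], [t, f, t, t, f, t, t, t], [t, t, t, f, f,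
    f, t, t, f], [f, f, t, f, t, t, f, t, f, t]]⟩,
  ⟨33, 1, [2569, 3129, 245, 2304, 3233], [260, 1093, 3205, 1397, 3497], [2695, 4041, 2808, 3932, 3768, 2012, 4081,
    1362, 39, 57, 3000, 3548], [146, 227, 362, 703, 1684, 3048, 3178, 1215, 3350, 1579, 77, 134], [f], 9, 1424,
    [[t, f, t, t, f, f, f, t, f, t, t], [f, f, t, f, f, t, t, f, f, t], [t, t, t, f, t, t, t, t], [f, f, t, t, t, t,
    f, t, t, t], [t, t, f, t, t], [t, t, t, f, t, f, f, f, t, f, t]]⟩,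
  ⟨33, 2, [628, 2965, 2129, 20, 3545, 1744], [165, 3957, 3408, 1124, 1229, 1009], [2327, 3625, 26, 47, 3978, 1487,
    2097, 3090, 2996, 3544, 1214, 2263], [413, 742, 801, 306, 2188, 3268, 858, 431, 1189, 2298, 1261, 2166], [t], 9,
    1913,
    [[t, f, t, t, f, t, f, f, t, f], [t, t, t, f, f, f, f, t, t, f, t, f], [f, f, t, f, t, f, t, f], [f, f, f, f, f,
    f, t, f, f, f, f], [t, f, t, t, f, f, f, t, f, f, f], [t, t, t, f, t, f]]⟩,
  ⟨33, 3, [1229, 281, 3636, 3169, 2725, 2973, 2093, 2245], [2681, 2881, 3053, 3297, 3908], [3756, 2036, 1218, 2115,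
    323, 641, 2012, 2404, 2307, 3585, 2428, 3732], [2547, 3665, 3570, 1619, 1173, 2282, 3731, 2017, 808, 316, 1669,
    3018], [f], 9, 1588,
    [[f, f, f, f, f, f, f, t, f, f, t], [f, t, t, f, t, f, f, t], [f, t, t, f, t], [f, t, f, f, f, f, t, t, f, t],
    [t, t, t, f, f, t, t, f, t], [t, f, t, t, t, t, f, f, t]]⟩,
  ⟨34, 1, [2129, 2909, 1124, 1657, 1988], [2753, 1717, 1949, 2905, 1025, 905, 1509, 4021], [1396, 2712, 734, 871,
    3843, 1281, 345, 686, 3311, 1141, 746, 895], [502, 603, 1339, 2589, 1673, 3022, 686, 1015, 3681, 1970, 184, 220],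
    [f], 12, 1901,
    [[f, t, t, t, t, t], [t, f, t, t, t, t, f, t, f, t, t], [f, t, t, t, f, f, t, t, f, t], [t, t, t, f, t, f, f, t],
    [t, f, f, t, t, t, f, f, f, t, t], [f, f, t, f, t, f, f, t, t]]⟩,
  ⟨34, 2, [1121, 3437, 1893, 1533, 1473], [3997, 2340, 185, 457, 1165, 2212, 1828, 2537], [1675, 3021, 2623, 3861,
    1319, 2617, 998, 379, 2283, 3197, 3376, 1552], [1938, 2531, 1934, 2503, 415, 741, 1912, 2460, 2343, 3641, 3301,
    1146], [f], 15, 2849,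
    [[t, f, f, t, t, f, t, t], [f, f, f, t, f, t, f, t, t, t], [t, t, t, f, t, t, t, t, t], [t, t, t, f, t, f, t, f,
    t, t], [f, f, t, f, t, f, f, f, t], [f, f, t, t, t, t, t]]⟩]

theorem chk_D4 : D4.all chk = true := by decide +kernel

/-- certificates -/
def D5 : List Crt := [
  ⟨34, 3, [1105, 2145, 2829, 1689, 724, 481, 2729], [253, 1988, 1493, 1365, 65, 121, 3269, 1201], [275, 545, 1813,
    2346, 1595, 2845, 1183, 2277, 2886, 3467, 1916, 2452], [3722, 1999, 698, 991, 3632, 1808, 3258, 1247, 78, 135,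
    75, 141], [t], 9, 3472,
    [[f, t, f, t, f, f, f, t, f, f], [f, t, t, f, f, f, t, t, f], [f, f, f, t, t, t, t, t, f], [f, f, f, f, t, f, f,
    t, f], [t, f, t, f, f, f, t, f, f], [t, t, f, f, f, t, f, f, t, f, f]]⟩,
  ⟨35, 1, [1429, 909, 1885, 3829, 3749, 2164], [3561, 769, 3364, 3949, 20, 1461], [665, 1006, 1507, 2673, 3310, 1143,
    4001, 1522, 1378, 2739, 2568, 3852], [362, 703, 4049, 1378, 1034, 2063, 4020, 1496, 2428, 3732, 3828, 1880], [f],
    15, 4033,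
    [[f, f, f, t, t, f, t, t], [t, f, t, f, t, f, f, t, t, t], [f, t, t, f, t, t, f, t, f, t], [f, f, f, t, t, f, t,
    t, f, t], [f, t, f, f, t, f, f, t], [f, t, f, f, t, f, f, t, f, t]]⟩,
  ⟨35, 2, [1053, 841, 1921, 689, 1389, 2029], [233, 2553, 484, 3797, 3833, 3117, 3493], [3083, 1037, 1441, 2802,
    3198, 1175, 598, 939, 4088, 1372, 3294, 1127], [2442, 3791, 26, 47, 3538, 1635, 2619, 3869, 556, 820, 989, 358],
    [t, f, f], 6, 724,
    [[f, f, t, t, f, t, f, f, f, f], [t, f, f, t, f, f, f, t], [t, t, t, t, t, f, f, f, t], [f, t, f, f, f, f, t, f,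
    f, f], [f, t, f, t, t, f, f, t, t], [t, t, f, t, t, f, t, f, t]]⟩,
  ⟨35, 3, [1045, 3129, 329, 181, 2989], [3088, 2372, 2429, 4025, 2228], [242, 83, 2388, 3752, 4084, 1368, 2635, 3981,
    1620, 2984, 3885, 1334], [265, 526, 957, 470, 312, 540, 2642, 4003, 1255, 2169, 3901, 1302], [f], 6, 457,
    [[f, f, t, t, f, t, t, t, t], [t, f, f, t], [f, t, f, t, t, f, f, t, t, f, t], [t, f, f, t, t, f, t], [t, t, f,
    t, t, t, f, t, f, t], [f, t, t]]⟩,
  ⟨36, 1, [1101, 3649, 3109, 689, 1717], [2640, 500, 2836, 3673, 2304], [2556, 3668, 530, 803, 2346, 3647, 1213,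
    2262, 639, 917, 269, 518], [880, 400, 599, 937, 1421, 2758, 361, 702, 1031, 2057, 1418, 2767], [f], 5, 3693,
    [[t, f, f, f, f, f, t, t, t, t], [f, f, f, t, f, f, f, t, t, t, t], [f, f, f, t, f, f, t], [f, t, f, t, t, f, t,
    t, f, t, t], [t, t, f, t, f, f, t, t, t, f, t], [t, t, t, t, f, f, f, f, t]]⟩,
  ⟨36, 2, [4036, 628, 3573, 453, 313], [1789, 1229, 3300, 1085, 813, 3577, 965, 3345], [1281, 2562, 116, 152, 726,
    875, 1468, 2772, 164, 248, 2262, 3179], [2828, 3332, 712, 844, 536, 812, 1243, 2157, 2913, 3506, 781, 262], [t],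
    5, 1437,
    [[t, f, f, f, t, t, f, f, f, f, f], [t, t, t, t, t, t, t, f, f], [t, f, t, f, f, f, f, t, f, f], [f, t, t, t, f],
    [f, t, f, f, f, f, t, t, t, f, f], [f, f, t, t, f, f, t, t, f]]⟩,
  ⟨36, 3, [2713, 3453, 689, 3649, 3377, 1825], [3233, 1088, 3012, 1701, 132, 3833], [877, 438, 1682, 3043, 342, 683,
    526, 775, 3480, 1772, 2199, 3305], [1937, 2530, 2506, 3663, 2812, 3924, 2303, 3157, 747, 893, 1302, 2603], [t],
    9, 1105,
    [[f, f, f, t, t, t, t, f, f], [f, f, f, t, t, f, t, t, f], [t, f, t, f], [t, f, t, f, f, f, t, t, f, f], [t, t,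
    f, t, f, t, f, t, f, t, f], [t, f, t, t, f, t, t, t, f, f]]⟩,
  ⟨37, 1, [821, 1449, 945, 249, 1616, 3757, 3313], [2921, 2833, 3445, 2809, 2553, 3957], [3668, 1960, 2958, 3527,
    243, 81, 1422, 2759, 3605, 1834, 2442, 3791], [3964, 1428, 1747, 2913, 949, 474, 2639, 3973, 2283, 3197, 3382,
    1563], [t], 9, 3033,
    [[f, t, f, f, f, f, t, f, f], [f, t, t, f, t, f], [t, t, f, f, t, t, t, t, f, f], [t, t, f, t, t, t, t, f, t, f,
    f], [f, t, f, f, t, t, f, t, f, f, f], [f, f, f, f, t, f, t, f, t, f, f]]⟩,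
  ⟨37, 2, [1641, 153, 553, 3757, 2833, 557], [80, 3984, 3876, 837, 625, 285], [1275, 2141, 954, 479, 1508, 2680,
    2597, 3898, 262, 523, 563, 785], [3403, 1677, 1119, 2213, 2870, 3355, 783, 261, 3586, 1795, 3752, 2044], [f], 9,
    1433,
    [[t, f, f, f, f, f, f, t], [f, t, t, t, t], [f, t, t, f, t], [f, t, f, t, f, f, t, t, t, t], [f, f, f, t, f, t,
    t], [t, t, f, f, t, f, f, f, f, t, t]]⟩,
  ⟨37, 3, [3001, 2340, 1097, 185, 3701, 1616], [3908, 2185, 916, 2645, 1709], [522, 783, 2886, 3467, 270, 519, 3216,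
    1248, 1581, 2870, 886, 411], [900, 456, 3238, 1275, 2476, 3828, 3484, 1764, 3555, 1649, 3629, 1846], [f], 9, 2645,
    [[f, t, f, f, f, f, t, f, t], [f, f, t, f, t], [f, f, f, f, f, t, t, t, f, f, t], [t, f, t, t, t, f, t, f, t, f,
    t], [t, f, t, f, f, f, f, f, t, f, t], [f, f, f, t, t, f, t, t, f, t]]⟩,
  ⟨38, 1, [2005, 3005, 2225, 852, 649, 2925], [2225, 169, 905, 3833, 1665], [976, 352, 3398, 1675, 885, 410, 1678,
    3015, 2058, 3087, 602, 943], [1817, 2350, 1318, 2619, 3736, 2028, 1998, 2375, 145, 226, 2854, 3387], [t, t, t, t,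
    f], 6, 1040,
    [[f, f, t, f, f, t, f, f], [f, f, f, t, f, f, f, f, t, t], [f, f, t, t, t, t, t, f, t], [t, f, t, t, f, f, f, t],
    [t, f, f, t, f, f, f, f], [f, t, t, f, t, f, f, f]]⟩,
  ⟨38, 2, [2397, 2196, 3805, 2960, 461, 1397], [553, 1769, 3773, 2317, 797], [750, 887, 1999, 2373, 1908, 2456, 3470,
    1735, 1075, 2065, 1615, 2949], [688, 976, 1814, 2347, 505, 606, 597, 938, 2381, 3718, 1245, 2150], [f], 9, 3773,
    [[f, t, f, f, f, f, f, t, t, t, t], [t, f, f, f, f, f, t, t], [f, t, f, f, f, f, t, t], [t, f, t, t, t, t, t, f,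
    t], [f, f, t, t, t, f, t], [f, f, t, t, f, t]]⟩,
  ⟨38, 3, [3860, 1329, 881, 1709, 965], [4093, 1332, 1529, 1389, 369, 2069, 689], [4046, 1351, 115, 145, 3410, 1699,
    2467, 3825, 2615, 3865, 3956, 1432], [1321, 2622, 1042, 2083, 2329, 3630, 3764, 2008, 1492, 2664, 716, 836], [t,
    t, f], 5, 3457,
    [[f, f, t, t, f, f, t, t, f, t], [t, f, t, t, f, t, f, t], [f, f, f, t, f, t, f], [t, f, t, f, t], [t, f, t, f,
    f, f, f, f, t], [t, t, t, f, f, t, f, f, t, t]]⟩,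
  ⟨39, 1, [1169, 569, 3024, 1332, 4009, 2473], [369, 528, 1429, 1300, 2692], [421, 762, 3492, 1784, 3569, 1618, 808,
    316, 460, 580, 1194, 2303], [1989, 2378, 3621, 1850, 1008, 336, 1948, 2532, 2529, 3698, 3232, 1264], [f], 9, 3380,
    [[t, t, t, t, t, f, f, f, f, t], [t, t, t, t, t, t, f, f, f, t], [f, f, t, f, t, t, t, t, f, f, t], [f, t, t, t,
    f, f, t, f, t], [t, f, f, t, f, f, f, t, f, f, t], [f, t, f, f, t, t, t, f, t, t]]⟩,
  ⟨39, 2, [1513, 2393, 3284, 3873, 468], [1769, 2425, 313, 1365, 2565, 3673], [1211, 2269, 3629, 1846, 3820, 1908,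
    2281, 3198, 834, 387, 2231, 3289], [3410, 1699, 3398, 1675, 385, 706, 1064, 2108, 342, 683, 898, 451], [f], 15,
    3413,
    [[t, t, f, f, t, t, f, f, f, t, t], [t, t, t, f, t, f, t, t, t, t], [t, t, t, t, f, t, f, t], [t, f, f, t, t, f,
    t, t, f, t], [t, t, f, f, f, t, t, f, t], [t, t, f, f, f, f, t, t, t]]⟩,
  ⟨39, 3, [3649, 965, 1709, 468, 260], [2653, 905, 3604, 1805, 901, 1689], [2658, 4019, 1929, 2510, 3600, 1824, 306,
    531, 2598, 3899, 1125, 2234], [381, 662, 2706, 4067, 2263, 3177, 3321, 1118, 3195, 1181, 2564, 3848], [t], 9,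
    2405,
    [[t, f, t, t, f, t, t, f], [t, t, t, f, t, t, f], [t, t, f, f, t, t, f, f, f], [f, f, f, t, f, t, t, t, f], [f,
    t, t, f, f, f, t, f, f, f], [t, f, f, t, t, f, f, f, t, f]]⟩]

theorem chk_D5 : D5.all chk = true := by decide +kernel

/-- all certificates -/
def DD : List Crt := D0 ++ D1 ++ D2 ++ D3 ++ D4 ++ D5

theorem chk_DD : ∀ d ∈ DD, chk d = true := by
  intro d hd
  simp only [DD, List.mem_append] at hd
  rcases hd with ((((hd | hd) | hd) | hd) | hd) | hd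
  · exact List.all_eq_true.1 chk_D0 d hd
  · exact List.all_eq_true.1 chk_D1 d hd
  · exact List.all_eq_true.1 chk_D2 d hd
  · exact List.all_eq_true.1 chk_D3 d hd
  · exact List.all_eq_true.1 chk_D4 d hd
  · exact List.all_eq_true.1 chk_D5 d hd

theorem cover_DD : ∀ i < 40, i ≠ 0 → ∀ l < 4, l ≠ 0 → (i ≠ 1 ∨ l ≠ 1) → ∃ d ∈ DD, d.i = i ∧ d.l = l := by
  have h : allB 40 (fun i => bif Nat.beq i 0 then true else allB 4 fun l => bif Nat.beq l 0 then true else
      bif (Nat.beq i 1 && Nat.beq l 1) then true else DD.any fun d => Nat.beq d.i i && Nat.beq d.l l) = true := by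
    decide +kernel
  intro i hi hi0 l hl hl0 hil
  have h1 := allB_spec h i hi
  have e1 : Nat.beq i 0 = false := Bool.eq_false_iff.2 fun h => hi0 (beq_eq h)
  have e2 : Nat.beq l 0 = false := Bool.eq_false_iff.2 fun h => hl0 (beq_eq h)
  have e3 : (Nat.beq i 1 && Nat.beq l 1) = false := by
    rw [Bool.and_eq_false_iff]
    rcases hil with h | h
    · exact Or.inl (Bool.eq_false_iff.2 fun h' => h (beq_eq h'))
    · exact Or.inr (Bool.eq_false_iff.2 fun h' => h (beq_eq h'))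
  simp only [e1, cond_false] at h1
  have h2 := allB_spec h1 l hl
  simp only [e2, e3, cond_false] at h2
  obtain ⟨d, hd, h3⟩ := List.any_eq_true.1 h2
  rw [Bool.and_eq_true] at h3
  exact ⟨d, hd, beq_eq h3.1, beq_eq h3.2⟩

end Cfsg.Agent.H259.U6
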